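import Cfsg.Agent.H938.F43.Lev
import Cfsg.Agent.H296.FFourPar
import Cfsg.Agent.H705.Dl.PsRgd
import Cfsg.Agent.S1035

/-!
# Parabolic subgroups of `F₄(3)`: orders (helper938)

* `card_P` : `|P_J| = 3 ^ a * 16 * ∑ 3 ^ inv ω`;
* `card_dvd` : `J ≠ univ`: `|P_J| ∣ 3 ^ a * 931840`;
* `exists_zpowers` : conjugacy of subgroups of order `p` when `p ^ 2` does not divide the order.
-/

set_option autoImplicit false
set_option linter.unusedSectionVars false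

namespace Cfsg.Agent.H938.F43

open CoxeterSystem Cfsg.Agent.ChevalleyStructure.CoxeterGeom Cfsg.Agent.Tits.Roots Cfsg.Agent.Tits.Core
  Cfsg.Agent.Tits.Exchange Cfsg.Agent.Nodes.Reps Cfsg.Agent.Nodes.BNOf Cfsg.Agent.Nodes.StabComb
  Cfsg.Agent.Nodes.Bruhat Cfsg.Agent.Nodes.OppDec Cfsg.Agent.Nodes.LeviDec
  Cfsg.Agent.Nodes.RGDChev Cfsg.Agent.KFacts.RgdFilt Cfsg.Agent.KFacts.RgdBorelTits Cfsg.Agent.KFacts.RgdChevCoord
  Cfsg.Agent.H700.F43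
open Cfsg.Lie Cfsg.Agent.ChevalleyStructure Cfsg.Agent.ChevalleyStructure.Elts
  Cfsg.Agent.ChevalleyStructure.RootVec Cfsg.Agent.ChevalleyStructure.NPerm
  Cfsg.Agent.ChevalleyStructure.CoxeterGeomTypes
open Cfsg.Agent.H701.F43.Cent (cF nroots finW)
open Cfsg.Agent.SigZero.FFourTwo
open Cfsg.Agent.Tits.RootComb Cfsg.Agent.Nodes.Comb Cfsg.Agent.Nodes.NormalForm
open scoped Pointwise

/-! ### conjugacy of subgroups of order `p` -/

theorem exists_zpowers {P : Type*} [Group P] [Finite P] {p : ℕ} (hp : p.Prime) (h2 : ¬ p ^ 2 ∣ Nat.card P) {a b : P}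
    (ha : orderOf a = p) (hb : orderOf b = p) : ∃ z : P, b ∈ Subgroup.zpowers (z * a * z⁻¹) := by
  have : Fact p.Prime := ⟨hp⟩
  have hdvd : p ∣ Nat.card P := ha ▸ orderOf_dvd_natCard a
  have hf : (Nat.card P).factorization p = 1 := by
    have h1 : 1 ≤ (Nat.card P).factorization p := (hp.dvd_iff_one_le_factorization Nat.card_pos.ne').1 hdvd
    have h3 : ¬ 2 ≤ (Nat.card P).factorization p := fun h => h2 ((hp.pow_dvd_iff_le_factorization Nat.card_pos.ne').2 h)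
    omega
  have hcard : ∀ c : P, orderOf c = p → Nat.card ↥(Subgroup.zpowers c) = p ^ (Nat.card P).factorization p := by
    intro c hc
    rw [Nat.card_zpowers, hc, hf, pow_one]
  let A := Sylow.ofCard (Subgroup.zpowers a) (hcard a ha)
  let B := Sylow.ofCard (Subgroup.zpowers b) (hcard b hb)
  obtain ⟨z, hz⟩ := MulAction.exists_smul_eq P A B
  refine ⟨z, ?_⟩
  have h4 : b ∈ (z • A : Sylow p P) := by
    rw [hz]
    exact Subgroup.mem_zpowers b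
  have h5 : b ∈ (MulAut.conj z • (A : Subgroup P) : Subgroup P) := h4
  rw [Subgroup.mem_pointwise_smul_iff_inv_smul_mem] at h5
  have h6 : (MulAut.conj z)⁻¹ • b = z⁻¹ * b * z := by
    rw [← map_inv, MulAut.smul_def, MulAut.conj_apply, inv_inv]
  rw [h6] at h5
  obtain ⟨k, hk⟩ := Subgroup.mem_zpowers_iff.1 (show z⁻¹ * b * z ∈ Subgroup.zpowers a from h5)
  refine Subgroup.mem_zpowers_iff.2 ⟨k, ?_⟩
  rw [conj_zpow, hk]
  group

/-! ### orders -/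

theorem card_X3 {x : Fin 4 → ℤ} (hx : IsRoot cF hF.isCartan x) : Nat.card ↥(X3 x) = 3 := by
  have C := coord3 hx
  have e : F3 ≃ ↥(X3 x) := Equiv.ofBijective (fun t => (⟨xc hF x t, (C.mem _).2 ⟨t, rfl⟩⟩ : ↥(X3 x)))
    ⟨fun a b h => C.inj (congrArg Subtype.val h), fun ⟨y, hy⟩ => by
      obtain ⟨a, rfl⟩ := (C.mem y).1 hy
      exact ⟨a, rfl⟩⟩
  rw [← Nat.card_congr e, Nat.card_zmod]

theorem card_T : Nat.card ↥(TT chevF4 F3) = 16 := by
  have h1 : Nat.card ↥(TT chevF4 F3) = Nat.card (chevF4.diagonalSubgroup F3) :=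
    Nat.card_congr (Subgroup.subgroupOfEquivOfLe (diagonal_le_group hF.inList F3)).toEquiv
  have h2 : 1 * Nat.card (chevF4.diagonalSubgroup F3) = (3 - 1) ^ 4 := S1035.result (ZMod.card 3) (chevF4, 1) (by simp)
  rw [h1, ← one_mul (Nat.card (chevF4.diagonalSubgroup F3)), h2]
  norm_num

/-- the parabolic subgroups -/
abbrev P3 (J : Set (Fin 4)) : Subgroup Gm := PJ cF hF.isCartan (TT chevF4 F3) X3 J

/-- the unipotent radicals -/
abbrev V3 (J : Set (Fin 4)) : Subgroup Gm := VJ cF hF.isCartan X3 J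

theorem card_P {J : List (Fin 4)} {L : List (List (Fin 4))} (hc : chk J L = true) :
    ∃ a : ℕ, Nat.card ↥(P3 {i | i ∈ J}) = 3 ^ a * (16 * (L.map fun ω => 3 ^ inv ω).sum) := by
  classical
  have hft : Fintype ↥(WJ cF {i | i ∈ J}) := Fintype.ofFinite _
  have h1 := Cfsg.Agent.H296.FFourPar.card_PJ_gen rgd3 {i | i ∈ J}
  obtain ⟨a, ha⟩ := (IsPGroup.iff_card (p := 3)).1 rgd3.isPGroup_Upos
  refine ⟨a, ?_⟩
  rw [h1, ha, card_T, mul_assoc]
  congr 2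
  have h2 : ∀ w : CoxeterMatrix.F₄.Group, Nat.card ↥(RGD.Sup X3 (NW cF hF.isCartan w)) =
      3 ^ (NW cF hF.isCartan w).ncard := fun w =>
    Cfsg.Agent.H296.FFourPar.card_Sup_NW rgd3 (fun x hx => card_X3 hx) w
  simp only [h2]
  rw [sum_WJ cF hc (fun w => 3 ^ (NW cF hF.isCartan w).ncard)]
  congr 1
  refine List.map_congr_left fun ω _ => ?_
  rw [ncard_NW]

theorem P3_mono {J J' : Set (Fin 4)} (h : J ⊆ J') : P3 J ≤ P3 J' := by
  exact Cfsg.Agent.H705.Dl.PsRgd.PJ_mono rgd3 h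

def L12 : List (List (Fin 4)) := [[], [1], [2], [1, 2], [2, 1], [1, 2, 1], [2, 1, 2], [1, 2, 1, 2]]

def L02 : List (List (Fin 4)) := [[], [0], [2], [0, 2]]

def L03 : List (List (Fin 4)) := [[], [0], [3], [0, 3]]

def L13 : List (List (Fin 4)) := [[], [1], [3], [1, 3]]

theorem dC : ∃ a, Nat.card ↥(P3 {i | i ∈ ([0, 1, 2] : List (Fin 4))}) = 3 ^ a * 931840 := by
  obtain ⟨a, ha⟩ := card_P chkLC
  refine ⟨a, ?_⟩
  rw [ha]
  exact congrArg (3 ^ a * ·) (by decide +kernel)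

theorem dB : ∃ a, Nat.card ↥(P3 {i | i ∈ ([1, 2, 3] : List (Fin 4))}) = 3 ^ a * 931840 := by
  obtain ⟨a, ha⟩ := card_P chkLB
  refine ⟨a, ?_⟩
  rw [ha]
  exact congrArg (3 ^ a * ·) (by decide +kernel)

theorem dD : ∃ a, Nat.card ↥(P3 {i | i ∈ ([0, 1, 3] : List (Fin 4))}) = 3 ^ a * 3328 := by
  obtain ⟨a, ha⟩ := card_P chkLD
  refine ⟨a, ?_⟩
  rw [ha]
  exact congrArg (3 ^ a * ·) (by decide +kernel)

theorem dE : ∃ a, Nat.card ↥(P3 {i | i ∈ ([0, 2, 3] : List (Fin 4))}) = 3 ^ a * 3328 := by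
  obtain ⟨a, ha⟩ := card_P chkLE
  refine ⟨a, ?_⟩
  rw [ha]
  exact congrArg (3 ^ a * ·) (by decide +kernel)

theorem d12 : ∃ a, Nat.card ↥(P3 {i | i ∈ ([1, 2] : List (Fin 4))}) = 3 ^ a * 2560 := by
  obtain ⟨a, ha⟩ := card_P (J := [1, 2]) (L := L12) (by decide +kernel)
  refine ⟨a, ?_⟩
  rw [ha]
  exact congrArg (3 ^ a * ·) (by decide +kernel)

theorem d02 : ∃ a, Nat.card ↥(P3 {i | i ∈ ([0, 2] : List (Fin 4))}) = 3 ^ a * 256 := by
  obtain ⟨a, ha⟩ := card_P (J := [0, 2]) (L := L02) (by decide +kernel)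
  refine ⟨a, ?_⟩
  rw [ha]
  exact congrArg (3 ^ a * ·) (by decide +kernel)

theorem d03 : ∃ a, Nat.card ↥(P3 {i | i ∈ ([0, 3] : List (Fin 4))}) = 3 ^ a * 256 := by
  obtain ⟨a, ha⟩ := card_P (J := [0, 3]) (L := L03) (by decide +kernel)
  refine ⟨a, ?_⟩
  rw [ha]
  exact congrArg (3 ^ a * ·) (by decide +kernel)

theorem d13 : ∃ a, Nat.card ↥(P3 {i | i ∈ ([1, 3] : List (Fin 4))}) = 3 ^ a * 256 := by
  obtain ⟨a, ha⟩ := card_P (J := [1, 3]) (L := L13) (by decide +kernel)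
  refine ⟨a, ?_⟩
  rw [ha]
  exact congrArg (3 ^ a * ·) (by decide +kernel)

/-- the order of a subset: `J ⊆ J'` -/
theorem dvd_of {J : Set (Fin 4)} {J' : List (Fin 4)} {m : ℕ} (h : ∃ a, Nat.card ↥(P3 {i | i ∈ J'}) = 3 ^ a * m)
    (hJ : ∀ i : Fin 4, i ∉ J' → i ∉ J) : ∃ a, Nat.card ↥(P3 J) ∣ 3 ^ a * m := by
  obtain ⟨a, ha⟩ := h
  refine ⟨a, ?_⟩
  rw [← ha]
  refine Subgroup.card_dvd_of_le (P3_mono fun i hi => ?_)
  by_contra h1
  exact hJ i h1 hi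

theorem card_dvd {J : Set (Fin 4)} (hJ : J ≠ Set.univ) : ∃ a, Nat.card ↥(P3 J) ∣ 3 ^ a * 931840 := by
  obtain ⟨i, hi⟩ := (Set.ne_univ_iff_exists_notMem J).1 hJ
  have h : ∀ (J' : List (Fin 4)), (∀ j, j ∉ J' → j = i) → ∀ j : Fin 4, j ∉ J' → j ∉ J := by
    intro J' h j hj
    rw [h j hj]
    exact hi
  have hD : ∀ {a m n : ℕ}, m ∣ n → m * 3 ^ a ∣ n * 3 ^ a := fun h => Nat.mul_dvd_mul_right h _
  fin_cases i
  · exact dvd_of dB (h [1, 2, 3] (by decide))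
  · obtain ⟨a, ha⟩ := dvd_of dE (h [0, 2, 3] (by decide))
    exact ⟨a, ha.trans (Nat.mul_dvd_mul_left _ (by norm_num))⟩
  · obtain ⟨a, ha⟩ := dvd_of dD (h [0, 1, 3] (by decide))
    exact ⟨a, ha.trans (Nat.mul_dvd_mul_left _ (by norm_num))⟩
  · exact dvd_of dC (h [0, 1, 2] (by decide))

end Cfsg.Agent.H938.F43
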