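import Cfsg.Agent.H938.F43.Fix
import Cfsg.Agent.H938.F43.Par
import Cfsg.Agent.H64.ChevField

/-!
# `F₄(3)` (S2465): elements of mixed order (F-C; helper938)

* `fix_all` : `y ∈ P_J` of prime order `p ≥ 5`, `J` proper: at most `3 ^ 4` fixed points on `V_J`;
* `cent3` : `|K| = 3`, `3 ∣ orderOf g`, a prime `p ≥ 5` divides `orderOf g`: `|C(g)| ≤ 75479040`;
* `fc` : the same with the bound `4976985092` of the sieve.
-/

set_option autoImplicit false
set_option linter.unusedSectionVars false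

namespace Cfsg.Agent.H938.F43

open CoxeterSystem Cfsg.Agent.ChevalleyStructure.CoxeterGeom Cfsg.Agent.Tits.Roots Cfsg.Agent.Tits.Core
  Cfsg.Agent.Tits.Exchange Cfsg.Agent.Nodes.Reps Cfsg.Agent.Nodes.BNOf Cfsg.Agent.Nodes.StabComb
  Cfsg.Agent.Nodes.Bruhat Cfsg.Agent.Nodes.OppDec Cfsg.Agent.Nodes.LeviDec
  Cfsg.Agent.Nodes.RGDChev Cfsg.Agent.KFacts.RgdFilt Cfsg.Agent.KFacts.RgdBorelTits Cfsg.Agent.KFacts.RgdChevCoord
  Cfsg.Agent.H700.F43
open Cfsg.Lie Cfsg.Agent.ChevalleyStructure Cfsg.Agent.ChevalleyStructure.Elts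
  Cfsg.Agent.ChevalleyStructure.RootVec Cfsg.Agent.ChevalleyStructure.NPerm
  Cfsg.Agent.ChevalleyStructure.CoxeterGeomTypes
open Cfsg.Agent.H701.F43.Cent (cF nroots finW)

universe u

theorem wd_mem_P {J : Set (Fin 4)} {J0 : List (Fin 4)} (hJ : ∀ k ∈ J0, k ∈ J) {w : List (ℕ × Bool)}
    (h : ∀ p ∈ w, p.1 < 48 ∧ ∀ k : Fin 4, k ∉ J0 → Cfsg.Agent.Nodes.RGDChev.vec chevF4 4 p.1 k = 0) : wd w ∈ P3 J := by
  induction w with
  | nil => rw [wd_nil]; exact one_mem _
  | cons p w ih =>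
    rw [wd_cons]
    refine mul_mem ?_ (ih fun q hq => h q (List.mem_cons_of_mem _ hq))
    obtain ⟨h1, h2⟩ := h p (List.mem_cons_self)
    have h3 : Cfsg.Agent.Nodes.RGDChev.vec chevF4 4 p.1 ∈ RootsJ cF hF.isCartan J :=
      ⟨isRoot_lt h1, fun k hk => h2 k fun hk' => hk (hJ k hk')⟩
    have h4 : X3 (Cfsg.Agent.Nodes.RGDChev.vec chevF4 4 p.1) ≤ P3 J :=
      le_trans (RGD.le_Sup h3) (le_trans le_sup_right le_sup_left)
    exact h4 (xr_mem h1)

theorem V3_le {f : Fin 4 → ℤ} (hf : ∀ i, 0 ≤ f i) {J : Set (Fin 4)} (h : ∀ k, k ∉ J → 1 ≤ f k) : V3 J ≤ Vk f 1 := by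
  refine RGD.Sup_mono ?_
  rintro x ⟨hx, h0, k, hk, h1⟩
  refine ⟨hx, ?_⟩
  have h2 := h k hk
  have h3 : ∀ i, 0 ≤ f i * x i := fun i => mul_nonneg (hf i) (h0 i)
  have h4 : 1 ≤ f k * x k := by nlinarith
  have a0 := h3 0
  have a1 := h3 1
  have a2 := h3 2
  have a3 := h3 3
  unfold dot
  fin_cases k
  · change 1 ≤ f 0 * x 0 at h4; omega
  · change 1 ≤ f 1 * x 1 at h4; omega
  · change 1 ≤ f 2 * x 2 at h4; omega
  · change 1 ≤ f 3 * x 3 at h4; omega

theorem conj_comm {Y : Type*} [Group Y] {z y v w : Y} (h : v * y = y * v) (hw : w ∈ Subgroup.zpowers (z * y * z⁻¹)) :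
    z * v * z⁻¹ * w = w * (z * v * z⁻¹) := by
  obtain ⟨k, rfl⟩ := Subgroup.mem_zpowers_iff.1 hw
  have h1 : Commute (z * v * z⁻¹) (z * y * z⁻¹) := by
    show z * v * z⁻¹ * (z * y * z⁻¹) = z * y * z⁻¹ * (z * v * z⁻¹)
    have e1 : z * v * z⁻¹ * (z * y * z⁻¹) = z * (v * y) * z⁻¹ := by group
    have e2 : z * y * z⁻¹ * (z * v * z⁻¹) = z * (y * v) * z⁻¹ := by group
    rw [e1, e2, h]
  exact h1.zpow_right k

theorem conj_inj {Y : Type*} [Group Y] {z a b : Y} (h : z * a * z⁻¹ = z * b * z⁻¹) : a = b :=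
  mul_left_cancel (mul_right_cancel h)

theorem exists_conj {Y : Type*} [Group Y] [Finite Y] {P : Subgroup Y} {p : ℕ} (hp : p.Prime)
    (h2 : ¬ p ^ 2 ∣ Nat.card ↥P) {a b : Y} (ha : a ∈ P) (hb : b ∈ P) (ha1 : orderOf a = p) (hb1 : b ^ p = 1)
    (hb2 : b ≠ 1) : ∃ z ∈ P, b ∈ Subgroup.zpowers (z * a * z⁻¹) := by
  have : Fact p.Prime := ⟨hp⟩
  have h3 : orderOf (⟨b, hb⟩ : ↥P) = p := by
    rw [Subgroup.orderOf_mk]
    exact orderOf_eq_prime hb1 hb2
  have h4 : orderOf (⟨a, ha⟩ : ↥P) = p := by rw [Subgroup.orderOf_mk, ha1]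
  obtain ⟨⟨z, hz⟩, hzw⟩ := exists_zpowers hp h2 h4 h3
  obtain ⟨k, hk⟩ := Subgroup.mem_zpowers_iff.1 hzw
  exact ⟨z, hz, Subgroup.mem_zpowers_iff.2 ⟨k, congrArg Subtype.val hk⟩⟩

theorem card_le_conj {Y : Type*} [Group Y] [Finite Y] {V V' : Subgroup Y} {z y w : Y}
    (hz : z ∈ Subgroup.normalizer (V : Set Y)) (hV : V ≤ V') (hw : w ∈ Subgroup.zpowers (z * y * z⁻¹)) :
    Nat.card ↥(V ⊓ Subgroup.centralizer {y}) ≤ Nat.card ↥(V' ⊓ Subgroup.centralizer {w}) := by
  have hmem : ∀ v ∈ V ⊓ Subgroup.centralizer {y}, z * v * z⁻¹ ∈ V' ⊓ Subgroup.centralizer {w} := by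
    intro v hv
    rw [Subgroup.mem_inf, Subgroup.mem_centralizer_singleton_iff] at hv ⊢
    exact ⟨hV ((Subgroup.mem_normalizer_iff.1 hz v).1 hv.1), conj_comm hv.2 hw⟩
  refine Nat.card_le_card_of_injective (fun v : ↥(V ⊓ Subgroup.centralizer {y}) =>
    (⟨z * v * z⁻¹, hmem v v.2⟩ : ↥(V' ⊓ Subgroup.centralizer {w}))) ?_
  intro a b hab
  exact Subtype.ext (conj_inj (congrArg Subtype.val hab))

theorem fixle {J : Set (Fin 4)} {p : ℕ} (hp : p.Prime) (hp2 : ¬ p ^ 2 ∣ Nat.card ↥(P3 J)) {f : Fin 4 → ℤ}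
    {w : List (ℕ × Bool)} (hw : wd w ∈ P3 J) (hpow : wd w ^ p = 1) (hne : wd w ≠ 1) (hV : V3 J ≤ Vk f 1) {n : ℕ}
    (hfix : Nat.card ↥(Vk f 1 ⊓ Subgroup.centralizer {wd w}) ≤ n) {y : Gm} (hy : y ∈ P3 J) (ho : orderOf y = p) :
    Nat.card ↥(V3 J ⊓ Subgroup.centralizer {y}) ≤ n := by
  obtain ⟨z, hz, hzw⟩ := exists_conj hp hp2 hy hw ho hpow hne
  exact le_trans (card_le_conj (PJ_le_normalizer_VJ rgd3 J hz) hV hzw) hfix

theorem eq_prime {p a m : ℕ} (hp : p.Prime) (h5 : 5 ≤ p) (h : p ∣ 3 ^ a * m) : p ∣ m := by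
  rcases hp.dvd_mul.1 h with h1 | h1
  · have := Nat.le_of_dvd (by norm_num) (hp.dvd_of_dvd_pow h1)
    omega
  · exact h1

/-- **At most 81 fixed points.** -/
theorem fix_all {J : Set (Fin 4)} (hJ : J ≠ Set.univ) {p : ℕ} (hp : p.Prime) (h5 : 5 ≤ p) {y : Gm} (hy : y ∈ P3 J)
    (ho : orderOf y = p) : Nat.card ↥(V3 J ⊓ Subgroup.centralizer {y}) ≤ 81 := by
  have hd : p ∣ Nat.card ↥(P3 J) := by
    rw [← ho]
    exact Subgroup.orderOf_dvd_natCard _ hy
  have hno : ∀ {J' : List (Fin 4)} {m : ℕ}, (∃ a, Nat.card ↥(P3 {i | i ∈ J'}) = 3 ^ a * m) → ¬ p ∣ m →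
      ¬ (∀ i : Fin 4, i ∉ J' → i ∉ J) := by
    intro J' m h1 h2 h3
    obtain ⟨a, ha⟩ := dvd_of h1 h3
    exact h2 (eq_prime hp h5 (hd.trans ha))
  obtain ⟨a, ha⟩ := card_dvd hJ
  have hpd := eq_prime hp h5 (hd.trans ha)
  have h3 : p = 5 ∨ p = 7 ∨ p = 13 := by
    have e : 931840 = 2 ^ 11 * (5 * (7 * 13)) := by norm_num
    rw [e] at hpd
    rcases hp.dvd_mul.1 hpd with h | h
    · have := Nat.le_of_dvd (by norm_num) (hp.dvd_of_dvd_pow h)
      omega
    rcases hp.dvd_mul.1 h with h | h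
    · exact Or.inl ((Nat.prime_dvd_prime_iff_eq hp (by norm_num)).1 h)
    rcases hp.dvd_mul.1 h with h | h
    · exact Or.inr (Or.inl ((Nat.prime_dvd_prime_iff_eq hp (by norm_num)).1 h))
    · exact Or.inr (Or.inr ((Nat.prime_dvd_prime_iff_eq hp (by norm_num)).1 h))
  have hp2 : ¬ p ^ 2 ∣ Nat.card ↥(P3 J) := by
    intro h
    have h1 : p ^ 2 ∣ 3 ^ a * 931840 := h.trans ha
    have h2 : (p ^ 2).Coprime (3 ^ a) := by
      refine Nat.Coprime.pow _ _ ((Nat.coprime_primes hp Nat.prime_three).2 (by omega))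
    have h4 := h2.dvd_of_dvd_mul_left h1
    rcases h3 with rfl | rfl | rfl <;> revert h4 <;> decide
  have hnot : ∀ i j : Fin 4, i ∉ J → j ∉ J → ∀ {J' : List (Fin 4)}, (∀ k, k ∉ J' → k = i ∨ k = j) →
      ∀ k : Fin 4, k ∉ J' → k ∉ J := by
    intro i j hi hj J' h k hk
    rcases h k hk with rfl | rfl <;> assumption
  rcases h3 with rfl | rfl | rfl
  · -- order 5
    have h1 : (1 : Fin 4) ∈ J := by
      by_contra h
      exact hno dE (by norm_num) (hnot 1 1 h h (by decide))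
    have h2 : (2 : Fin 4) ∈ J := by
      by_contra h
      exact hno dD (by norm_num) (hnot 2 2 h h (by decide))
    have hJ0 : ∀ k ∈ ([1, 2] : List (Fin 4)), k ∈ J := by
      intro k hk
      simp only [List.mem_cons, List.not_mem_nil, or_false] at hk
      rcases hk with rfl | rfl <;> assumption
    refine fixle (f := fa) hp hp2 (wd_mem_P hJ0 (by decide +kernel)) pow_a ne_a (V3_le (by decide) ?_) fix_a hy ho
    intro k hk
    have h3 : k ∉ ([1, 2] : List (Fin 4)) := fun h => hk (hJ0 k h)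
    clear hk
    revert k
    decide
  · -- order 7
    have h1 : (1 : Fin 4) ∈ J := by
      by_contra h
      exact hno dE (by norm_num) (hnot 1 1 h h (by decide))
    have h2 : (2 : Fin 4) ∈ J := by
      by_contra h
      exact hno dD (by norm_num) (hnot 2 2 h h (by decide))
    by_cases h0 : (0 : Fin 4) ∈ J
    · have hJ0 : ∀ k ∈ ([0, 1, 2] : List (Fin 4)), k ∈ J := by
        intro k hk
        simp only [List.mem_cons, List.not_mem_nil, or_false] at hk
        rcases hk with rfl | rfl | rfl <;> assumption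
      refine le_trans (fixle (f := fd) hp hp2 (wd_mem_P hJ0 (by decide +kernel)) pow_d ne_d (V3_le (by decide) ?_)
        fix_d hy ho) (by norm_num)
      intro k hk
      have h3 : k ∉ ([0, 1, 2] : List (Fin 4)) := fun h => hk (hJ0 k h)
      clear hk
      revert k
      decide
    · have h3' : (3 : Fin 4) ∈ J := by
        by_contra h
        exact hno d12 (by norm_num) (hnot 0 3 h0 h (by decide))
      have hJ0 : ∀ k ∈ ([1, 2, 3] : List (Fin 4)), k ∈ J := by
        intro k hk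
        simp only [List.mem_cons, List.not_mem_nil, or_false] at hk
        rcases hk with rfl | rfl | rfl <;> assumption
      refine le_trans (fixle (f := fe) hp hp2 (wd_mem_P hJ0 (by decide +kernel)) pow_e ne_e (V3_le (by decide) ?_)
        fix_e hy ho) (by norm_num)
      intro k hk
      have h3 : k ∉ ([1, 2, 3] : List (Fin 4)) := fun h => hk (hJ0 k h)
      clear hk
      revert k
      decide
  · -- order 13
    by_cases hc : (0 : Fin 4) ∈ J ∧ (1 : Fin 4) ∈ J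
    · obtain ⟨h0, h1⟩ := hc
      have hJ0 : ∀ k ∈ ([0, 1] : List (Fin 4)), k ∈ J := by
        intro k hk
        simp only [List.mem_cons, List.not_mem_nil, or_false] at hk
        rcases hk with rfl | rfl <;> assumption
      refine le_trans (fixle (f := fc) hp hp2 (wd_mem_P hJ0 (by decide +kernel)) pow_c ne_c (V3_le (by decide) ?_)
        fix_c hy ho) (by norm_num)
      intro k hk
      have h3 : k ∉ ([0, 1] : List (Fin 4)) := fun h => hk (hJ0 k h)
      clear hk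
      revert k
      decide
    by_cases hb : (2 : Fin 4) ∈ J ∧ (3 : Fin 4) ∈ J
    · obtain ⟨h2, h3'⟩ := hb
      have hJ0 : ∀ k ∈ ([2, 3] : List (Fin 4)), k ∈ J := by
        intro k hk
        simp only [List.mem_cons, List.not_mem_nil, or_false] at hk
        rcases hk with rfl | rfl <;> assumption
      refine le_trans (fixle (f := fb) hp hp2 (wd_mem_P hJ0 (by decide +kernel)) pow_b ne_b (V3_le (by decide) ?_)
        fix_b hy ho) (by norm_num)
      intro k hk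
      have h3 : k ∉ ([2, 3] : List (Fin 4)) := fun h => hk (hJ0 k h)
      clear hk
      revert k
      decide
    exfalso
    by_cases h0 : (0 : Fin 4) ∈ J
    · have h1 : (1 : Fin 4) ∉ J := fun h => hc ⟨h0, h⟩
      by_cases h2 : (2 : Fin 4) ∈ J
      · have h3 : (3 : Fin 4) ∉ J := fun h => hb ⟨h2, h⟩
        exact hno d02 (by norm_num) (hnot 1 3 h1 h3 (by decide))
      · exact hno d03 (by norm_num) (hnot 1 2 h1 h2 (by decide))
    · by_cases h2 : (2 : Fin 4) ∈ J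
      · have h3 : (3 : Fin 4) ∉ J := fun h => hb ⟨h2, h⟩
        exact hno d12 (by norm_num) (hnot 0 3 h0 h3 (by decide))
      · exact hno d13 (by norm_num) (hnot 0 2 h0 h2 (by decide))

theorem final {Y : Type*} [Group Y] [Finite Y] {m c : ℕ} (hm : 0 < m)
    (H : ∀ S : Subgroup Y, IsPGroup 3 ↥S → S ≠ ⊥ → ∃ (g : Y) (V P : Subgroup Y), S ≤ cj g V ∧
      Subgroup.normalizer (S : Set Y) ≤ cj g P ∧ (∃ a, Nat.card ↥P ∣ 3 ^ a * m) ∧
      ∀ p : ℕ, p.Prime → 5 ≤ p → ∀ y ∈ P, orderOf y = p → Nat.card ↥(V ⊓ Subgroup.centralizer {y}) ≤ c)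
    {g : Y} (h3 : 3 ∣ orderOf g) {p : ℕ} (hp : p.Prime) (h5 : 5 ≤ p) (hpg : p ∣ orderOf g) :
    Nat.card ↥(Subgroup.centralizer ({g} : Set Y)) ≤ c * m := by
  have i3 : Fact (Nat.Prime 3) := ⟨Nat.prime_three⟩
  have hg0 : orderOf g ≠ 0 := (orderOf_pos g).ne'
  set C := Subgroup.centralizer ({g} : Set Y) with hC
  set u := g ^ (orderOf g / 3) with hu
  set y := g ^ (orderOf g / p) with hy
  have hu3 : orderOf u = 3 := orderOf_pow_orderOf_div hg0 h3
  have hyp : orderOf y = p := orderOf_pow_orderOf_div hg0 hpg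
  have hcu : ∀ n : ℕ, ∀ x ∈ C, x * g ^ n = g ^ n * x := by
    intro n x hx
    rw [hC, Subgroup.mem_centralizer_singleton_iff] at hx
    exact (show Commute x g from hx).pow_right n
  have huC : u ∈ C := by
    rw [hC, Subgroup.mem_centralizer_singleton_iff]
    exact ((Commute.refl g).pow_left _)
  let P : Sylow 3 ↥C := default
  set S := (P : Subgroup ↥C).map C.subtype with hS
  have hcS : Nat.card ↥S = Nat.card ↥(P : Subgroup ↥C) :=
    (Nat.card_congr ((P : Subgroup ↥C).equivMapOfInjective C.subtype C.subtype_injective).toEquiv).symm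
  have hSp : IsPGroup 3 ↥S := P.isPGroup'.map _
  have hSC : S ≤ C := Subgroup.map_subtype_le _
  have h3C : 3 ∣ Nat.card ↥C := by
    rw [← hu3]
    exact Subgroup.orderOf_dvd_natCard _ huC
  have hidx : ¬ 3 ∣ (P : Subgroup ↥C).index := P.not_dvd_index
  have hmul : Nat.card ↥C = Nat.card ↥S * (P : Subgroup ↥C).index := by
    rw [hcS, Subgroup.card_mul_index]
  have hS1 : S ≠ ⊥ := by
    intro h
    rw [h, Subgroup.card_bot, one_mul] at hmul
    exact hidx (hmul ▸ h3C)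
  obtain ⟨g1, V, Q, hV, hQ, -, hfix⟩ := H S hSp hS1
  -- the 3-part
  have hcS2 : Nat.card ↥S ≤ c := by
    have hyN : y ∈ Subgroup.normalizer (S : Set Y) := by
      rw [Subgroup.mem_normalizer_iff]
      intro s
      constructor
      · intro hs
        have h1 := hcu (orderOf g / p) s (hSC hs)
        rw [← hy] at h1
        have e : y * s * y⁻¹ = s := by rw [← h1, mul_inv_cancel_right]
        rwa [e]
      · intro hs
        have h1 := hcu (orderOf g / p) _ (hSC hs)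
        rw [← hy] at h1
        have e : s = y * s * y⁻¹ := by
          have h2 : y * s * y⁻¹ * y = y * (y * s * y⁻¹) := h1
          have h3 : y * s = y * (y * s * y⁻¹) := by
            rw [← h2]; group
          exact mul_left_cancel h3
        rw [e]
        exact hs
    have hy1 : g1⁻¹ * y * g1 ∈ Q := mem_cj.1 (hQ hyN)
    have hy2 : orderOf (g1⁻¹ * y * g1) = p := by
      have h1 := orderOf_injective (MulAut.conj g1⁻¹).toMonoidHom (MulAut.conj g1⁻¹).injective y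
      have h2 : (MulAut.conj g1⁻¹).toMonoidHom y = g1⁻¹ * y * g1 := by
        simp
      rw [h2] at h1
      rw [h1, hyp]
    refine le_trans (Nat.card_le_card_of_injective (fun s : ↥S => (⟨g1⁻¹ * s * g1, ?_⟩ :
      ↥(V ⊓ Subgroup.centralizer {g1⁻¹ * y * g1}))) ?_) (hfix p hp h5 _ hy1 hy2)
    · refine Subgroup.mem_inf.2 ⟨mem_cj.1 (hV s.2), ?_⟩
      rw [Subgroup.mem_centralizer_singleton_iff]
      have h1 := hcu (orderOf g / p) s (hSC s.2)
      rw [← hy] at h1
      have e1 : g1⁻¹ * (s : Y) * g1 * (g1⁻¹ * y * g1) = g1⁻¹ * (s * y) * g1 := by group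
      have e2 : g1⁻¹ * y * g1 * (g1⁻¹ * (s : Y) * g1) = g1⁻¹ * (y * s) * g1 := by group
      rw [e1, e2, h1]
    · intro a b hab
      have h1 : g1⁻¹ * (a : Y) * g1 = g1⁻¹ * (b : Y) * g1 := congrArg Subtype.val hab
      exact Subtype.ext (mul_left_cancel (mul_right_cancel h1))
  -- the other part
  have hk : (P : Subgroup ↥C).index ≤ m := by
    have hzp : IsPGroup 3 ↥(Subgroup.zpowers u) := by
      rw [IsPGroup.iff_card]
      exact ⟨1, by rw [Nat.card_zpowers, hu3, pow_one]⟩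
    have hz1 : Subgroup.zpowers u ≠ ⊥ := by
      intro h
      rw [Subgroup.zpowers_eq_bot] at h
      rw [h, orderOf_one] at hu3
      omega
    obtain ⟨g2, -, Q2, -, hQ2, ⟨a, ha⟩, -⟩ := H _ hzp hz1
    have hCN : C ≤ Subgroup.normalizer ((Subgroup.zpowers u : Subgroup Y) : Set Y) := by
      intro x hx
      have h1 := hcu (orderOf g / 3) x hx
      rw [← hu] at h1
      rw [Subgroup.mem_normalizer_iff]
      intro s
      have h2 : ∀ x : Y, x * u = u * x → ∀ s ∈ Subgroup.zpowers u, x * s * x⁻¹ = s := by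
        intro x hx s hs
        obtain ⟨k, rfl⟩ := Subgroup.mem_zpowers_iff.1 hs
        rw [((show Commute x u from hx).zpow_right k).eq, mul_inv_cancel_right]
      constructor
      · intro hs
        rw [h2 x h1 s hs]
        exact hs
      · intro hs
        have h3 : x⁻¹ * u = u * x⁻¹ := (show Commute x u from h1).inv_left
        have h4 := h2 x⁻¹ h3 _ hs
        have e : x⁻¹ * (x * s * x⁻¹) * x⁻¹⁻¹ = s := by group
        rw [e] at h4
        rw [h4]
        exact hs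
    have h1 : Nat.card ↥C ∣ 3 ^ a * m := by
      refine (Subgroup.card_dvd_of_le (hCN.trans hQ2)).trans ?_
      have h2 : Nat.card ↥(cj g2 Q2) = Nat.card ↥Q2 :=
        (Nat.card_congr (Q2.equivMapOfInjective _ (MulAut.conj g2).injective).toEquiv).symm
      rw [h2]
      exact ha
    have h2 : (P : Subgroup ↥C).index ∣ 3 ^ a * m := (Dvd.intro_left _ hmul.symm).trans h1
    have h3 : ((P : Subgroup ↥C).index).Coprime (3 ^ a) :=
      ((Nat.Prime.coprime_iff_not_dvd Nat.prime_three).2 hidx).symm.pow_right a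
    exact Nat.le_of_dvd hm (h3.dvd_of_dvd_mul_left h2)
  rw [hmul]
  exact Nat.mul_le_mul hcS2 hk

/-- isomorphic groups -/
theorem card_cent_map {G : Type*} {H : Type*} [Group G] [Group H] (e : G ≃* H) (x : G) :
    Nat.card ↥(Subgroup.centralizer ({e x} : Set H)) = Nat.card ↥(Subgroup.centralizer ({x} : Set G)) := by
  refine (Nat.card_congr (Equiv.subtypeEquiv e.toEquiv fun g => ?_)).symm
  rw [Subgroup.mem_centralizer_singleton_iff, Subgroup.mem_centralizer_singleton_iff]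
  constructor
  · intro h
    have h1 : e (g * x) = e (x * g) := congrArg e h
    rw [map_mul, map_mul] at h1
    exact h1
  · intro h
    have h1 : e (g * x) = e (x * g) := by
      rw [map_mul, map_mul]
      exact h
    exact e.injective h1

theorem transport {G : Type*} {H : Type*} [Group G] [Group H] (e : G ≃* H) {n p : ℕ}
    (hH : ∀ h : H, 3 ∣ orderOf h → p ∣ orderOf h → Nat.card ↥(Subgroup.centralizer ({h} : Set H)) ≤ n) (g : G)
    (h3 : 3 ∣ orderOf g) (hp : p ∣ orderOf g) : Nat.card ↥(Subgroup.centralizer ({g} : Set G)) ≤ n := by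
  rw [← card_cent_map e g]
  refine hH _ ?_ ?_
  · rw [MulEquiv.orderOf_eq]
    exact h3
  · rw [MulEquiv.orderOf_eq]
    exact hp

theorem cent3' {g : Gm} (h3 : 3 ∣ orderOf g) {p : ℕ} (hp : p.Prime) (h5 : 5 ≤ p) (hpg : p ∣ orderOf g) :
    Nat.card ↥(Subgroup.centralizer ({g} : Set Gm)) ≤ 81 * 931840 := by
  refine final (by norm_num) (fun S hS hS1 => ?_) h3 hp h5 hpg
  obtain ⟨x, J, hJ, hV, hP⟩ := borel_tits (Cfsg.Agent.KFacts.RgdFiltChev.filt (K := F3) hF cF 3)
    (GG_eq_top (G1_eq_top hF cF)) hS hS1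
  exact ⟨x, V3 J, P3 J, hV, hP, card_dvd hJ, fun p hp h5 y hy ho => fix_all hJ hp h5 hy ho⟩

theorem cent_r (r : ℕ) [Fact r.Prime] (hr : r = 3) {p : ℕ} (hp : p.Prime) (h5 : 5 ≤ p)
    (g : ↥(chevF4.group (ZMod r))) (h3 : 3 ∣ orderOf g) (hpg : p ∣ orderOf g) :
    Nat.card ↥(Subgroup.centralizer ({g} : Set ↥(chevF4.group (ZMod r)))) ≤ 81 * 931840 := by
  subst hr
  exact cent3' h3 hp h5 hpg

theorem cent_K {K : Type u} [Field K] [Fintype K] (r : ℕ) [Fact r.Prime] (hr : r = 3) (hc : Fintype.card K = r) {p : ℕ}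
    (hp : p.Prime) (h5 : 5 ≤ p) (g : ↥(chevF4.group K)) (h3 : 3 ∣ orderOf g) (hpg : p ∣ orderOf g) :
    Nat.card ↥(Subgroup.centralizer ({g} : Set ↥(chevF4.group K))) ≤ 81 * 931840 := by
  have hc' : Fintype.card K = Fintype.card (ZMod r) := by rw [ZMod.card, hc]
  exact transport (Cfsg.Agent.H64.ChevField.groupCongr (FiniteField.ringEquivOfCardEq hc') chevF4)
    (fun h h1 h2 => cent_r r hr hp h5 h h1 h2) g h3 hpg

/-- **`F-C`** -/
theorem cent3 {K : Type u} [Field K] (hK : Nat.card K = 3) {g : ↥(chevF4.group K)} (h3 : 3 ∣ orderOf g) {p : ℕ}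
    (hp : p.Prime) (h5 : 5 ≤ p) (hpg : p ∣ orderOf g) :
    Nat.card ↥(Subgroup.centralizer ({g} : Set ↥(chevF4.group K))) ≤ 75479040 := by
  have : Finite K := Nat.finite_of_card_ne_zero (by rw [hK]; norm_num)
  let _ : Fintype K := Fintype.ofFinite K
  exact (cent_K 3 rfl (by rw [← Nat.card_eq_fintype_card, hK]) hp h5 g h3 hpg).trans (by norm_num)

/-- the bound of the sieve -/
theorem fc_le {K : Type u} [Field K] (hK : Nat.card K = 3) {g : ↥(chevF4.group K)} (h3 : 3 ∣ orderOf g) {p : ℕ}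
    (hp : p.Prime) (h5 : 5 ≤ p) (hpg : p ∣ orderOf g) :
    Nat.card ↥(Subgroup.centralizer ({g} : Set ↥(chevF4.group K))) ≤ 4976985092 :=
  (cent3 hK h3 hp h5 hpg).trans (by norm_num)

end Cfsg.Agent.H938.F43
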