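import Mathlib

/-!
# Fixed points of an element on a group with an abelian section (helper938)

* `step` : `N ≤ V` normalised by `y`, `V / N` abelian and generated by the elements `[v, y]` and by `f` elements of
  order `3`: `|C_V(y)| ≤ 3 ^ f |C_N(y)|`.
-/

set_option autoImplicit false
set_option linter.unusedSectionVars false

namespace Cfsg.Agent.H938.F43.Abs

theorem card_eq_ker_range {A B : Type*} [Group A] [Group B] (f : A →* B) :
    Nat.card A = Nat.card ↥f.ker * Nat.card ↥f.range := by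
  rw [Subgroup.card_eq_card_quotient_mul_card_subgroup f.ker, mul_comm]
  congr 1
  exact Nat.card_congr (QuotientGroup.quotientKerEquivRange f).toEquiv

theorem card_map_mul {A B : Type*} [Group A] [Group B] (f : A →* B) (H : Subgroup A) :
    Nat.card ↥H = Nat.card ↥(H ⊓ f.ker) * Nat.card ↥(H.map f) := by
  have h1 := card_eq_ker_range (f.comp H.subtype)
  have h2 : (f.comp H.subtype).range = H.map f := by
    rw [MonoidHom.range_comp, Subgroup.range_subtype]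
  have h3 : Nat.card ↥(f.comp H.subtype).ker = Nat.card ↥(H ⊓ f.ker) := by
    have e : (f.comp H.subtype).ker = (H ⊓ f.ker).subgroupOf H := by
      ext x
      rw [MonoidHom.mem_ker, Subgroup.mem_subgroupOf, Subgroup.mem_inf, MonoidHom.mem_ker]
      exact ⟨fun h => ⟨x.2, h⟩, fun h => h.2⟩
    rw [e]
    exact Nat.card_congr (Subgroup.subgroupOfEquivOfLe inf_le_left).toEquiv
  rw [h1, h2, h3]

theorem card_sup_le {A : Type*} [CommGroup A] [Finite A] (H K : Subgroup A) :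
    Nat.card ↥(H ⊔ K) ≤ Nat.card ↥H * Nat.card ↥K := by
  rw [← Nat.card_prod]
  refine Nat.card_le_card_of_surjective (fun x : ↥H × ↥K => (⟨(x.1 : A) * (x.2 : A),
    mul_mem (Subgroup.mem_sup_left x.1.2) (Subgroup.mem_sup_right x.2.2)⟩ : ↥(H ⊔ K))) ?_
  rintro ⟨z, hz⟩
  obtain ⟨a, ha, b, hb, e⟩ := Subgroup.mem_sup.1 hz
  exact ⟨(⟨a, ha⟩, ⟨b, hb⟩), Subtype.ext e⟩

theorem card_gen {A : Type*} [CommGroup A] [Finite A] (B : Subgroup A) : ∀ S : List A, (∀ s ∈ S, s ^ 3 = 1) →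
    Nat.card ↥(B ⊔ Subgroup.closure {s | s ∈ S}) ≤ 3 ^ S.length * Nat.card ↥B
  | [], _ => by simp
  | a :: S, h => by
    have ih := card_gen B S fun s hs => h s (List.mem_cons_of_mem _ hs)
    have e : B ⊔ Subgroup.closure {s | s ∈ a :: S} = Subgroup.zpowers a ⊔ (B ⊔ Subgroup.closure {s | s ∈ S}) := by
      have e1 : {s | s ∈ a :: S} = {a} ∪ {s | s ∈ S} := by
        ext s
        simp
      rw [e1, Subgroup.closure_union, ← Subgroup.zpowers_eq_closure]
      rw [← sup_assoc, ← sup_assoc, sup_comm B]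
    rw [e]
    refine le_trans (card_sup_le _ _) ?_
    have h1 : Nat.card ↥(Subgroup.zpowers a) ≤ 3 := by
      rw [Nat.card_zpowers]
      exact Nat.le_of_dvd (by norm_num) (orderOf_dvd_of_pow_eq_one (h a (List.mem_cons_self)))
    calc _ ≤ 3 * (3 ^ S.length * Nat.card ↥B) := Nat.mul_le_mul h1 ih
      _ = _ := by rw [List.length_cons, pow_succ]; ring

/-- **the step** -/
theorem step {G : Type*} [Group G] [Finite G] {V N : Subgroup G} (hNV : N ≤ V) (y : G)
    (hc : ∀ a ∈ V, ∀ b ∈ V, a * b * a⁻¹ * b⁻¹ ∈ N) (hyV : ∀ v ∈ V, y * v * y⁻¹ ∈ V)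
    (hyN : ∀ v ∈ N, y * v * y⁻¹ ∈ N) (S : List G) (hS : ∀ s ∈ S, s ∈ V) (hS3 : ∀ s ∈ S, s ^ 3 = 1)
    (hV : V ≤ Subgroup.closure (({x | ∃ v ∈ V, x = v * y * v⁻¹ * y⁻¹} ∪ (N : Set G)) ∪ {s | s ∈ S})) :
    Nat.card ↥(V ⊓ Subgroup.centralizer {y}) ≤ 3 ^ S.length * Nat.card ↥(N ⊓ Subgroup.centralizer {y}) := by
  have hnorm : (N.subgroupOf V).Normal := by
    constructor
    rintro ⟨n, hn⟩ h1 ⟨g, hg⟩
    rw [Subgroup.mem_subgroupOf] at h1 ⊢
    change n ∈ N at h1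
    change g * n * g⁻¹ ∈ N
    have e : g * n * g⁻¹ = g * n * g⁻¹ * n⁻¹ * n := by group
    rw [e]
    exact mul_mem (hc g hg n hn) h1
  let q : ↥V →* ↥V ⧸ N.subgroupOf V := QuotientGroup.mk' _
  have hqk : q.ker = N.subgroupOf V := QuotientGroup.ker_mk' _
  have hqs : Function.Surjective q := QuotientGroup.mk'_surjective _
  have hq : ∀ a : ↥V, q a = 1 ↔ (a : G) ∈ N := fun a => by
    rw [← MonoidHom.mem_ker, hqk, Subgroup.mem_subgroupOf]
  have hcm : ∀ a b : ↥V, q a * q b = q b * q a := by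
    intro a b
    have h1 : q (a * b * a⁻¹ * b⁻¹) = 1 := (hq _).2 (hc a a.2 b b.2)
    rw [map_mul, map_mul, map_mul, map_inv, map_inv, mul_inv_eq_one, mul_inv_eq_iff_eq_mul] at h1
    exact h1
  let _ : CommGroup (↥V ⧸ N.subgroupOf V) :=
    { (inferInstance : Group (↥V ⧸ N.subgroupOf V)) with
      mul_comm := by
        intro a b
        obtain ⟨a, rfl⟩ := hqs a
        obtain ⟨b, rfl⟩ := hqs b
        exact hcm a b }
  -- the map
  have hyi : ∀ v ∈ V, v * y * v⁻¹ * y⁻¹ ∈ V := by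
    intro v hv
    have e : v * y * v⁻¹ * y⁻¹ = v * (y * v⁻¹ * y⁻¹) := by group
    rw [e]
    exact mul_mem hv (hyV _ (inv_mem hv))
  let κ : ↥V →* ↥V ⧸ N.subgroupOf V := MonoidHom.mk' (fun v => q ⟨v * y * (v : G)⁻¹ * y⁻¹, hyi v v.2⟩) (by
    intro a b
    have e : (⟨((a * b : ↥V) : G) * y * ((a * b : ↥V) : G)⁻¹ * y⁻¹, hyi _ (a * b).2⟩ : ↥V) =
        a * ⟨b * y * (b : G)⁻¹ * y⁻¹, hyi b b.2⟩ * a⁻¹ * ⟨a * y * (a : G)⁻¹ * y⁻¹, hyi a a.2⟩ := by
      apply Subtype.ext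
      simp only [Subgroup.coe_mul, Subgroup.coe_inv]
      group
    show q _ = q _ * q _
    rw [e, map_mul, map_mul, map_mul, map_inv, hcm a, mul_inv_cancel_right, hcm])
  have hκ : ∀ v : ↥V, κ v = q ⟨v * y * (v : G)⁻¹ * y⁻¹, hyi v v.2⟩ := fun v => rfl
  have hkN : N.subgroupOf V ≤ κ.ker := by
    intro v hv
    rw [Subgroup.mem_subgroupOf] at hv
    rw [MonoidHom.mem_ker, hκ, hq]
    have e : (v : G) * y * (v : G)⁻¹ * y⁻¹ = v * (y * (v : G)⁻¹ * y⁻¹) := by group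
    show (v : G) * y * (v : G)⁻¹ * y⁻¹ ∈ N
    rw [e]
    exact mul_mem hv (hyN _ (inv_mem hv))
  have hkC : (Subgroup.centralizer {y}).subgroupOf V ≤ κ.ker := by
    intro v hv
    rw [Subgroup.mem_subgroupOf, Subgroup.mem_centralizer_singleton_iff] at hv
    rw [MonoidHom.mem_ker, hκ, hq]
    show (v : G) * y * (v : G)⁻¹ * y⁻¹ ∈ N
    rw [hv]
    have e : y * (v : G) * (v : G)⁻¹ * y⁻¹ = 1 := by group
    rw [e]
    exact one_mem _
  -- the cokernel
  have hgen : κ.range ⊔ Subgroup.closure {s | s ∈ S.attach.map fun s => q ⟨s.1, hS s.1 s.2⟩} = ⊤ := by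
    rw [eq_top_iff]
    intro x _
    obtain ⟨⟨v, hv⟩, rfl⟩ := hqs x
    set H := κ.range ⊔ Subgroup.closure {s | s ∈ S.attach.map fun s => q ⟨s.1, hS s.1 s.2⟩} with hH
    have h1 := hV hv
    have key : ∀ w ∈ Subgroup.closure (({x | ∃ v ∈ V, x = v * y * v⁻¹ * y⁻¹} ∪ (N : Set G)) ∪ {s | s ∈ S}),
        ∃ hw : w ∈ V, q ⟨w, hw⟩ ∈ H := by
      intro w hw
      induction hw using Subgroup.closure_induction with
      | mem w hw =>
        rcases hw with (⟨v, hv, rfl⟩ | hw) | hw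
        · exact ⟨hyi v hv, Subgroup.mem_sup_left ⟨⟨v, hv⟩, rfl⟩⟩
        · refine ⟨hNV hw, ?_⟩
          rw [(hq ⟨w, hNV hw⟩).2 hw]
          exact one_mem _
        · refine ⟨hS w hw, Subgroup.mem_sup_right (Subgroup.subset_closure ?_)⟩
          exact List.mem_map.2 ⟨⟨w, hw⟩, List.mem_attach _ _, rfl⟩
      | one => exact ⟨one_mem _, by
          have : q ⟨1, one_mem V⟩ = 1 := map_one q
          rw [this]; exact one_mem _⟩
      | mul a b _ _ iha ihb =>
        obtain ⟨ha, ha'⟩ := iha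
        obtain ⟨hb, hb'⟩ := ihb
        refine ⟨mul_mem ha hb, ?_⟩
        have : q ⟨a * b, mul_mem ha hb⟩ = q ⟨a, ha⟩ * q ⟨b, hb⟩ := map_mul q ⟨a, ha⟩ ⟨b, hb⟩
        rw [this]
        exact mul_mem ha' hb'
      | inv a _ iha =>
        obtain ⟨ha, ha'⟩ := iha
        refine ⟨inv_mem ha, ?_⟩
        have : q ⟨a⁻¹, inv_mem ha⟩ = (q ⟨a, ha⟩)⁻¹ := map_inv q ⟨a, ha⟩
        rw [this]
        exact inv_mem ha'
    exact (key v h1).2
  have h1 := card_gen κ.range (S.attach.map fun s => q ⟨s.1, hS s.1 s.2⟩) (by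
    intro s hs
    obtain ⟨⟨s', hs'⟩, -, rfl⟩ := List.mem_map.1 hs
    rw [← map_pow]
    have : (⟨s', hS s' hs'⟩ : ↥V) ^ 3 = 1 := Subtype.ext (hS3 s' hs')
    rw [this, map_one])
  rw [hgen, List.length_map, List.length_attach, Subgroup.card_top] at h1
  -- the count
  have h2 := card_eq_ker_range κ
  have h3 := card_map_mul q ⊤
  rw [top_inf_eq, hqk, Subgroup.card_top, ← MonoidHom.range_eq_map, MonoidHom.range_eq_top.2 hqs, Subgroup.card_top] at h3
  have h4 := card_map_mul q κ.ker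
  rw [hqk, inf_eq_right.2 hkN] at h4
  have h5 := card_map_mul q ((Subgroup.centralizer {y}).subgroupOf V)
  have h6 : Nat.card ↥(((Subgroup.centralizer {y}).subgroupOf V).map q) ≤ Nat.card ↥(κ.ker.map q) :=
    Subgroup.card_le_of_le (Subgroup.map_mono hkC)
  have h7 : Nat.card ↥((Subgroup.centralizer {y}).subgroupOf V) = Nat.card ↥(V ⊓ Subgroup.centralizer {y}) := by
    have e : (Subgroup.centralizer {y}).subgroupOf V = (V ⊓ Subgroup.centralizer {y}).subgroupOf V := by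
      rw [Subgroup.inf_subgroupOf_left]
    rw [e]
    exact Nat.card_congr (Subgroup.subgroupOfEquivOfLe inf_le_left).toEquiv
  have h8 : Nat.card ↥((Subgroup.centralizer {y}).subgroupOf V ⊓ q.ker) = Nat.card ↥(N ⊓ Subgroup.centralizer {y}) := by
    have e : (Subgroup.centralizer {y}).subgroupOf V ⊓ q.ker = (N ⊓ Subgroup.centralizer {y}).subgroupOf V := by
      rw [hqk]
      ext x
      rw [Subgroup.mem_inf, Subgroup.mem_subgroupOf, Subgroup.mem_subgroupOf, Subgroup.mem_subgroupOf, Subgroup.mem_inf,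
        and_comm]
    rw [e]
    exact Nat.card_congr (Subgroup.subgroupOfEquivOfLe (le_trans inf_le_left hNV)).toEquiv
  rw [h7, h8] at h5
  rw [h5, mul_comm]
  refine Nat.mul_le_mul_right _ (le_trans h6 ?_)
  -- |κ.ker.map q| ≤ 3 ^ f
  have hN0 : 0 < Nat.card ↥(N.subgroupOf V) := Nat.card_pos
  have hR0 : 0 < Nat.card ↥κ.range := Nat.card_pos
  have h9 : Nat.card ↥(N.subgroupOf V) * Nat.card ↥(κ.ker.map q) * Nat.card ↥κ.range ≤
      Nat.card ↥(N.subgroupOf V) * 3 ^ S.length * Nat.card ↥κ.range := by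
    rw [← h4, ← h2, h3, mul_assoc]
    exact Nat.mul_le_mul_left _ h1
  have h10 := Nat.le_of_mul_le_mul_right h9 hR0
  exact Nat.le_of_mul_le_mul_left h10 hN0

end Cfsg.Agent.H938.F43.Abs
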