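import Cfsg.Agent.H938.F43.Lev

/-!
# Fixed points of elements of order `5`, `7`, `13` of Levi subgroups of `F₄(3)` on the unipotent radicals (helper938)

The nodes are those of `chevF4` (`0`, `1` short, `2`, `3` long).  For each of the configurations

* `a` : order `5`, `J = {1, 2}`;
* `b` : order `13`, `J = {2, 3}`;
* `c` : order `13`, `J = {0, 1}`;
* `d` : order `7`, `J = {0, 1, 2}`;
* `e` : order `7`, `J = {1, 2, 3}`

`y?` is a word in the root elements of `L_J`, `pow_?`: its order, `fix_?` : at most `3 ^ 4` (`3 ^ 3`) fixed points on `V_J`.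
-/

set_option autoImplicit false
set_option linter.unusedSectionVars false
set_option maxRecDepth 100000

namespace Cfsg.Agent.H938.F43

open Cfsg.Agent.H700.F43
open Cfsg.Agent.ChevalleyStructure.E6Min.Tables

/-- the word with an entry `≠ 0` outside the diagonal -/
noncomputable def chkN (w : List (ℕ × Bool)) (i j : ℕ) : Bool :=
  okF w && evk (exw w) idR fun A => decide (dg (A.getD i 0) j ≠ 0)

theorem ne_one {w : List (ℕ × Bool)} {i j : ℕ} (hi : i < 27) (hj : j < 27) (hij : i ≠ j) (h : chkN w i j = true) :
    wd w ≠ 1 := by
  rw [chkN, Bool.and_eq_true, evk_eq, decide_eq_true_eq] at h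
  intro h1
  have h2 := entry h.1 (dec i) (dec j)
  rw [code_dec hi, code_dec hj] at h2
  apply h.2
  rw [← h2, h1, map_one]
  refine Matrix.one_apply_ne fun h3 => hij ?_
  rw [← code_dec hi, ← code_dec hj, h3]

theorem wd_pow (w : List (ℕ × Bool)) (n : ℕ) : wd (List.replicate n w).flatten = wd w ^ n := by
  induction n with
  | zero => rw [pow_zero]; rfl
  | succ n ih => rw [List.replicate_succ, List.flatten_cons, wd_append, ih, pow_succ']

theorem pow_of {w : List (ℕ × Bool)} {n : ℕ} (h : chkE (List.replicate n w).flatten [] = true) : wd w ^ n = 1 := by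
  rw [← wd_pow, word_eq h, wd_nil]

/-! ### order 5, `J = {1, 2}` -/

/-- the word -/
def ya : List (ℕ × Bool) :=
  [(22, false), (20, true), (27, false), (25, false)]

/-- the level function -/
abbrev fa : Fin 4 → ℤ := ![1, 0, 0, 1]

theorem pow_a : wd ya ^ 5 = 1 := pow_of (by decide +kernel)

theorem ne_a : wd ya ≠ 1 := ne_one (i := 0) (j := 1) (by norm_num) (by norm_num) (by norm_num) (by decide +kernel)

theorem lev_a : ∀ p ∈ ya, p.1 < 48 ∧ 0 ≤ lvl fa p.1 := by decide +kernel

/-- the rows of level 1 -/
def ra1 : List Row :=
  [(26, [(24, false), (26, true)], [], []),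
   (29, [(24, false), (29, false)], [], []),
   (31, [(24, true)], [], []),
   (32, [(24, true), (26, false), (29, false), (31, true)], [(24, false)], []),
   (33, [(33, false), (34, true), (35, true), (37, true)], [], [(41, true)]),
   (34, [(33, false), (34, false), (35, false), (37, false)], [], [(41, true)]),
   (35, [(33, false), (34, false), (35, false), (37, true)], [], [(41, false)]),
   (37, [(33, true), (34, true), (35, false), (37, false)], [], [(41, false)])]

theorem sa1 : Nat.card ↥(Vk fa 1 ⊓ Subgroup.centralizer {wd ya}) ≤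
    3 ^ ([24] : List ℕ).length * Nat.card ↥(Vk fa (1 + 1) ⊓ Subgroup.centralizer {wd ya}) :=
  fix_step (by norm_num) lev_a (by decide +kernel) (rows := ra1) (by decide +kernel) (by decide +kernel)
    (by decide +kernel)

/-- the rows of level 2 -/
def ra2 : List Row :=
  [(36, [(36, false), (38, true), (39, true), (40, true)], [], [(47, true)]),
   (38, [(36, false), (38, false), (39, false), (40, false)], [], [(47, true)]),
   (39, [(36, false), (38, false), (39, false), (40, true)], [], [(47, false)]),
   (40, [(36, true), (38, true), (39, false), (40, false)], [], [(47, false)])]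

theorem sa2 : Nat.card ↥(Vk fa 2 ⊓ Subgroup.centralizer {wd ya}) ≤
    3 ^ ([41] : List ℕ).length * Nat.card ↥(Vk fa (2 + 1) ⊓ Subgroup.centralizer {wd ya}) :=
  fix_step (by norm_num) lev_a (by decide +kernel) (rows := ra2) (by decide +kernel) (by decide +kernel)
    (by decide +kernel)

/-- the rows of level 3 -/
def ra3 : List Row :=
  [(43, [(42, true), (43, true)], [], []),
   (44, [(42, false), (44, false)], [], []),
   (45, [(42, true)], [], []),
   (46, [(42, true), (43, true), (44, false), (45, true)], [(42, false)], [])]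

theorem sa3 : Nat.card ↥(Vk fa 3 ⊓ Subgroup.centralizer {wd ya}) ≤
    3 ^ ([42] : List ℕ).length * Nat.card ↥(Vk fa (3 + 1) ⊓ Subgroup.centralizer {wd ya}) :=
  fix_step (by norm_num) lev_a (by decide +kernel) (rows := ra3) (by decide +kernel) (by decide +kernel)
    (by decide +kernel)

/-- the rows of level 4 -/
def ra4 : List Row :=
  []

theorem sa4 : Nat.card ↥(Vk fa 4 ⊓ Subgroup.centralizer {wd ya}) ≤
    3 ^ ([47] : List ℕ).length * Nat.card ↥(Vk fa (4 + 1) ⊓ Subgroup.centralizer {wd ya}) :=
  fix_step (by norm_num) lev_a (by decide +kernel) (rows := ra4) (by decide +kernel) (by decide +kernel)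
    (by decide +kernel)

theorem fix_a : Nat.card ↥(Vk fa 1 ⊓ Subgroup.centralizer {wd ya}) ≤ 3 ^ 4 := by
  have h1 := sa1
  have h2 := sa2
  have h3 := sa3
  have h4 := sa4
  have h0 : Vk fa (4 + 1) = ⊥ := Vk_bot (by decide +kernel)
  rw [h0, bot_inf_eq, Subgroup.card_bot] at h4
  norm_num at h1 h2 h3 h4 ⊢
  omega

/-! ### order 13, `J = {2, 3}` -/

/-- the word -/
def yb : List (ℕ × Bool) :=
  [(25, false), (22, true), (23, true), (24, false)]

/-- the level function -/
abbrev fb : Fin 4 → ℤ := ![1, 1, 0, 0]

theorem pow_b : wd yb ^ 13 = 1 := pow_of (by decide +kernel)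

theorem ne_b : wd yb ≠ 1 := ne_one (i := 1) (j := 23) (by norm_num) (by norm_num) (by norm_num) (by decide +kernel)

theorem lev_b : ∀ p ∈ yb, p.1 < 48 ∧ 0 ≤ lvl fb p.1 := by decide +kernel

/-- the rows of level 1 -/
def rb1 : List Row :=
  [(27, [(29, false)], [], [(31, false)]),
   (28, [(27, true)], [], [(30, false)]),
   (29, [(27, false), (28, true)], [], [(30, true), (31, false), (32, true)])]

theorem sb1 : Nat.card ↥(Vk fb 1 ⊓ Subgroup.centralizer {wd yb}) ≤
    3 ^ ([33] : List ℕ).length * Nat.card ↥(Vk fb (1 + 1) ⊓ Subgroup.centralizer {wd yb}) :=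
  fix_step (by norm_num) lev_b (by decide +kernel) (rows := rb1) (by decide +kernel) (by decide +kernel)
    (by decide +kernel)

/-- the rows of level 2 -/
def rb2 : List Row :=
  [(30, [(30, true), (32, true)], [], []),
   (31, [(30, true), (31, true)], [], []),
   (32, [(30, true), (31, true), (32, true)], [], []),
   (34, [(36, false)], [], [(42, true)]),
   (35, [(34, true)], [], [(41, true)]),
   (36, [(34, false), (35, true)], [], [(41, false), (42, true), (43, false)])]

theorem sb2 : Nat.card ↥(Vk fb 2 ⊓ Subgroup.centralizer {wd yb}) ≤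
    3 ^ ([] : List ℕ).length * Nat.card ↥(Vk fb (2 + 1) ⊓ Subgroup.centralizer {wd yb}) :=
  fix_step (by norm_num) lev_b (by decide +kernel) (rows := rb2) (by decide +kernel) (by decide +kernel)
    (by decide +kernel)

/-- the rows of level 3 -/
def rb3 : List Row :=
  [(37, [(37, true), (39, true)], [], [(47, true)]),
   (38, [(37, true), (38, true)], [], [(45, true), (46, true)]),
   (39, [(37, true), (38, true), (39, true)], [], [(45, false), (47, false)])]

theorem sb3 : Nat.card ↥(Vk fb 3 ⊓ Subgroup.centralizer {wd yb}) ≤
    3 ^ ([] : List ℕ).length * Nat.card ↥(Vk fb (3 + 1) ⊓ Subgroup.centralizer {wd yb}) :=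
  fix_step (by norm_num) lev_b (by decide +kernel) (rows := rb3) (by decide +kernel) (by decide +kernel)
    (by decide +kernel)

/-- the rows of level 4 -/
def rb4 : List Row :=
  [(41, [(41, true), (43, true)], [], []),
   (42, [(41, true), (42, true)], [], []),
   (43, [(41, true), (42, true), (43, true)], [], [])]

theorem sb4 : Nat.card ↥(Vk fb 4 ⊓ Subgroup.centralizer {wd yb}) ≤
    3 ^ ([40] : List ℕ).length * Nat.card ↥(Vk fb (4 + 1) ⊓ Subgroup.centralizer {wd yb}) :=
  fix_step (by norm_num) lev_b (by decide +kernel) (rows := rb4) (by decide +kernel) (by decide +kernel)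
    (by decide +kernel)

/-- the rows of level 5 -/
def rb5 : List Row :=
  []

theorem sb5 : Nat.card ↥(Vk fb 5 ⊓ Subgroup.centralizer {wd yb}) ≤
    3 ^ ([44] : List ℕ).length * Nat.card ↥(Vk fb (5 + 1) ⊓ Subgroup.centralizer {wd yb}) :=
  fix_step (by norm_num) lev_b (by decide +kernel) (rows := rb5) (by decide +kernel) (by decide +kernel)
    (by decide +kernel)

/-- the rows of level 6 -/
def rb6 : List Row :=
  [(45, [(47, false)], [], []),
   (46, [(45, true)], [], []),
   (47, [(45, false), (46, true)], [], [])]

theorem sb6 : Nat.card ↥(Vk fb 6 ⊓ Subgroup.centralizer {wd yb}) ≤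
    3 ^ ([] : List ℕ).length * Nat.card ↥(Vk fb (6 + 1) ⊓ Subgroup.centralizer {wd yb}) :=
  fix_step (by norm_num) lev_b (by decide +kernel) (rows := rb6) (by decide +kernel) (by decide +kernel)
    (by decide +kernel)

theorem fix_b : Nat.card ↥(Vk fb 1 ⊓ Subgroup.centralizer {wd yb}) ≤ 3 ^ 3 := by
  have h1 := sb1
  have h2 := sb2
  have h3 := sb3
  have h4 := sb4
  have h5 := sb5
  have h6 := sb6
  have h0 : Vk fb (6 + 1) = ⊥ := Vk_bot (by decide +kernel)
  rw [h0, bot_inf_eq, Subgroup.card_bot] at h6
  norm_num at h1 h2 h3 h4 h5 h6 ⊢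
  omega

/-! ### order 13, `J = {0, 1}` -/

/-- the word -/
def yc : List (ℕ × Bool) :=
  [(33, false), (14, true), (20, true), (27, false)]

/-- the level function -/
abbrev fc : Fin 4 → ℤ := ![0, 0, 1, 1]

theorem pow_c : wd yc ^ 13 = 1 := pow_of (by decide +kernel)

theorem ne_c : wd yc ≠ 1 := ne_one (i := 0) (j := 1) (by norm_num) (by norm_num) (by norm_num) (by decide +kernel)

theorem lev_c : ∀ p ∈ yc, p.1 < 48 ∧ 0 ≤ lvl fc p.1 := by decide +kernel

/-- the rows of level 1 -/
def rc1 : List Row :=
  [(25, [(25, false), (28, false), (30, false), (37, true), (41, true)], [], []),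
   (28, [(28, false), (35, true), (41, true)], [], []),
   (30, [(25, false), (28, false), (30, true), (35, false), (41, false)], [], []),
   (35, [(25, false), (28, true), (30, true), (35, true), (37, false)], [], []),
   (37, [(25, true), (30, false), (35, false), (37, false), (41, false)], [], []),
   (41, [(25, true), (28, true), (30, false), (35, true), (41, false)], [], [])]

theorem sc1 : Nat.card ↥(Vk fc 1 ⊓ Subgroup.centralizer {wd yc}) ≤
    3 ^ ([24] : List ℕ).length * Nat.card ↥(Vk fc (1 + 1) ⊓ Subgroup.centralizer {wd yc}) :=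
  fix_step (by norm_num) lev_c (by decide +kernel) (rows := rc1) (by decide +kernel) (by decide +kernel)
    (by decide +kernel)

/-- the rows of level 2 -/
def rc2 : List Row :=
  [(26, [(26, false), (29, false), (31, false), (38, true), (42, true)], [], []),
   (29, [(29, false), (36, true), (42, true)], [], []),
   (31, [(26, false), (29, false), (31, true), (36, false), (42, false)], [], []),
   (36, [(26, false), (29, true), (31, true), (36, true), (38, false)], [], []),
   (38, [(26, true), (31, false), (36, false), (38, false), (42, false)], [], []),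
   (42, [(26, true), (29, true), (31, false), (36, true), (42, false)], [], [])]

theorem sc2 : Nat.card ↥(Vk fc 2 ⊓ Subgroup.centralizer {wd yc}) ≤
    3 ^ ([] : List ℕ).length * Nat.card ↥(Vk fc (2 + 1) ⊓ Subgroup.centralizer {wd yc}) :=
  fix_step (by norm_num) lev_c (by decide +kernel) (rows := rc2) (by decide +kernel) (by decide +kernel)
    (by decide +kernel)

/-- the rows of level 3 -/
def rc3 : List Row :=
  [(32, [(32, false), (39, false), (43, true), (44, false), (45, true)], [], []),
   (39, [(39, false), (40, false), (45, false)], [], []),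
   (40, [(32, false), (39, false), (43, true), (44, false)], [], []),
   (43, [(32, true), (39, false), (40, false), (45, false)], [], []),
   (44, [(32, false), (40, false), (43, true), (44, false), (45, false)], [], []),
   (45, [(32, true), (39, false), (40, false), (43, false), (45, false)], [], [])]

theorem sc3 : Nat.card ↥(Vk fc 3 ⊓ Subgroup.centralizer {wd yc}) ≤
    3 ^ ([] : List ℕ).length * Nat.card ↥(Vk fc (3 + 1) ⊓ Subgroup.centralizer {wd yc}) :=
  fix_step (by norm_num) lev_c (by decide +kernel) (rows := rc3) (by decide +kernel) (by decide +kernel)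
    (by decide +kernel)

/-- the rows of level 4 -/
def rc4 : List Row :=
  []

theorem sc4 : Nat.card ↥(Vk fc 4 ⊓ Subgroup.centralizer {wd yc}) ≤
    3 ^ ([46] : List ℕ).length * Nat.card ↥(Vk fc (4 + 1) ⊓ Subgroup.centralizer {wd yc}) :=
  fix_step (by norm_num) lev_c (by decide +kernel) (rows := rc4) (by decide +kernel) (by decide +kernel)
    (by decide +kernel)

/-- the rows of level 5 -/
def rc5 : List Row :=
  []

theorem sc5 : Nat.card ↥(Vk fc 5 ⊓ Subgroup.centralizer {wd yc}) ≤
    3 ^ ([47] : List ℕ).length * Nat.card ↥(Vk fc (5 + 1) ⊓ Subgroup.centralizer {wd yc}) :=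
  fix_step (by norm_num) lev_c (by decide +kernel) (rows := rc5) (by decide +kernel) (by decide +kernel)
    (by decide +kernel)

theorem fix_c : Nat.card ↥(Vk fc 1 ⊓ Subgroup.centralizer {wd yc}) ≤ 3 ^ 3 := by
  have h1 := sc1
  have h2 := sc2
  have h3 := sc3
  have h4 := sc4
  have h5 := sc5
  have h0 : Vk fc (5 + 1) = ⊥ := Vk_bot (by decide +kernel)
  rw [h0, bot_inf_eq, Subgroup.card_bot] at h5
  norm_num at h1 h2 h3 h4 h5 ⊢
  omega

/-! ### order 7, `J = {0, 1, 2}` -/

/-- the word -/
def yd : List (ℕ × Bool) :=
  [(33, true), (14, true), (27, false), (25, true), (22, true), (20, true), (14, false), (27, false)]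

/-- the level function -/
abbrev fd : Fin 4 → ℤ := ![0, 0, 0, 1]

theorem pow_d : wd yd ^ 7 = 1 := pow_of (by decide +kernel)

theorem ne_d : wd yd ≠ 1 := ne_one (i := 0) (j := 1) (by norm_num) (by norm_num) (by norm_num) (by decide +kernel)

theorem lev_d : ∀ p ∈ yd, p.1 < 48 ∧ 0 ≤ lvl fd p.1 := by decide +kernel

/-- the rows of level 1 -/
def rd1 : List Row :=
  [(29, [(24, true), (29, true), (31, false), (36, false), (38, false)], [(26, false)], []),
   (31, [(26, false), (31, false), (36, true), (38, true)], [(24, true), (26, false)], []),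
   (32, [(24, true), (31, true), (32, true), (36, true), (38, true)], [(26, false)], []),
   (36, [(24, true), (26, true), (29, true)], [(26, true)], []),
   (38, [(26, true), (29, true), (31, false), (32, false), (36, false), (39, false)], [(24, false), (26, true)], [(47, true)]),
   (39, [(24, true), (29, true), (31, false), (32, false), (36, false), (38, false), (39, true), (42, false), (43, true), (44, false)], [(24, true)], [(47, false)]),
   (40, [(29, true), (31, true), (36, false), (38, true), (39, false), (40, true), (42, true), (43, false), (44, true)], [(24, false), (26, false)], [(47, true)]),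
   (42, [(24, true), (26, false), (29, false), (31, true), (32, true), (38, false), (39, true)], [(24, false), (26, false)], [(47, true)]),
   (43, [(24, false), (26, true), (29, false), (31, true), (32, false), (36, true), (38, true), (39, false), (42, true), (43, false), (44, true)], [(24, false), (26, false)], [(47, false)]),
   (44, [(24, true), (29, true), (31, false), (32, true), (36, true), (38, false), (39, true), (40, false)], [(26, false)], [(47, false)]),
   (45, [(24, false), (26, true), (29, true), (32, true), (36, true), (39, true), (40, false), (42, true), (43, true), (44, false)], [(24, false), (26, false)], [(47, false)]),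
   (46, [(29, false), (31, false), (36, true), (38, false), (39, true), (40, true), (42, false), (43, true), (44, true)], [(24, true), (26, true)], [(47, false)])]

theorem sd1 : Nat.card ↥(Vk fd 1 ⊓ Subgroup.centralizer {wd yd}) ≤
    3 ^ ([24, 26] : List ℕ).length * Nat.card ↥(Vk fd (1 + 1) ⊓ Subgroup.centralizer {wd yd}) :=
  fix_step (by norm_num) lev_d (by decide +kernel) (rows := rd1) (by decide +kernel) (by decide +kernel)
    (by decide +kernel)

/-- the rows of level 2 -/
def rd2 : List Row :=
  []

theorem sd2 : Nat.card ↥(Vk fd 2 ⊓ Subgroup.centralizer {wd yd}) ≤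
    3 ^ ([47] : List ℕ).length * Nat.card ↥(Vk fd (2 + 1) ⊓ Subgroup.centralizer {wd yd}) :=
  fix_step (by norm_num) lev_d (by decide +kernel) (rows := rd2) (by decide +kernel) (by decide +kernel)
    (by decide +kernel)

theorem fix_d : Nat.card ↥(Vk fd 1 ⊓ Subgroup.centralizer {wd yd}) ≤ 3 ^ 3 := by
  have h1 := sd1
  have h2 := sd2
  have h0 : Vk fd (2 + 1) = ⊥ := Vk_bot (by decide +kernel)
  rw [h0, bot_inf_eq, Subgroup.card_bot] at h2
  norm_num at h1 h2 ⊢
  omega

/-! ### order 7, `J = {1, 2, 3}` -/

/-- the word -/
def ye : List (ℕ × Bool) :=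
  [(23, false), (25, true), (22, false), (20, true), (24, true), (25, true), (27, false), (25, false)]

/-- the level function -/
abbrev fe : Fin 4 → ℤ := ![1, 0, 0, 0]

theorem pow_e : wd ye ^ 7 = 1 := pow_of (by decide +kernel)

theorem ne_e : wd ye ≠ 1 := ne_one (i := 0) (j := 1) (by norm_num) (by norm_num) (by norm_num) (by decide +kernel)

theorem lev_e : ∀ p ∈ ye, p.1 < 48 ∧ 0 ≤ lvl fe p.1 := by decide +kernel

/-- the rows of level 1 -/
def re1 : List Row :=
  [(35, [(33, true), (34, true), (35, true)], [(34, false)], [(41, false), (42, false), (43, false)]),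
   (36, [(33, true)], [(33, false)], []),
   (37, [(33, false), (34, true), (35, false), (37, true)], [(33, false), (34, true)], []),
   (38, [(34, false), (36, false)], [(33, false), (34, true)], [(42, false), (43, false), (47, true)]),
   (39, [(33, false), (36, true)], [(33, true)], [(43, false)]),
   (40, [(33, true), (35, true), (36, true), (38, false)], [(33, false)], [(44, true), (46, false), (47, true)])]

theorem se1 : Nat.card ↥(Vk fe 1 ⊓ Subgroup.centralizer {wd ye}) ≤
    3 ^ ([33, 34] : List ℕ).length * Nat.card ↥(Vk fe (1 + 1) ⊓ Subgroup.centralizer {wd ye}) :=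
  fix_step (by norm_num) lev_e (by decide +kernel) (rows := re1) (by decide +kernel) (by decide +kernel)
    (by decide +kernel)

/-- the rows of level 2 -/
def re2 : List Row :=
  [(42, [(42, true), (43, true)], [], []),
   (43, [(41, false), (42, false), (43, false)], [(41, true)], []),
   (44, [(41, true), (42, true), (43, false), (44, false)], [(41, false)], []),
   (45, [(41, true), (42, false), (44, true), (45, false), (46, true)], [(41, true)], []),
   (46, [(41, false), (43, false), (44, true), (45, false)], [], []),
   (47, [(41, false), (42, false), (43, true)], [(41, true)], [])]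

theorem se2 : Nat.card ↥(Vk fe 2 ⊓ Subgroup.centralizer {wd ye}) ≤
    3 ^ ([41] : List ℕ).length * Nat.card ↥(Vk fe (2 + 1) ⊓ Subgroup.centralizer {wd ye}) :=
  fix_step (by norm_num) lev_e (by decide +kernel) (rows := re2) (by decide +kernel) (by decide +kernel)
    (by decide +kernel)

theorem fix_e : Nat.card ↥(Vk fe 1 ⊓ Subgroup.centralizer {wd ye}) ≤ 3 ^ 3 := by
  have h1 := se1
  have h2 := se2
  have h0 : Vk fe (2 + 1) = ⊥ := Vk_bot (by decide +kernel)
  rw [h0, bot_inf_eq, Subgroup.card_bot] at h2
  norm_num at h1 h2 ⊢
  omega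

end Cfsg.Agent.H938.F43
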