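import Cfsg.Agent.H700.F43.Eng
import Cfsg.Agent.H701.F43.Cent
import Cfsg.Agent.KFacts.RgdFiltChev
import Cfsg.Agent.H938.F43.Abs

/-!
# Levels of the unipotent group of `F₄(3)` and fixed points of a word (helper938)

`Vk f k`: generated by the root groups `X_x` with `k ≤ f · x` (`f ≥ 0`).

* `comm_Vk` : `[V_k, V_k] ≤ V_{k+1}` for `k ≥ 1`;
* `fix_step` : the certificate for `|C_{V_k}(y)| ≤ 3 ^ |S| |C_{V_{k+1}}(y)|`.
-/

set_option autoImplicit false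
set_option linter.unusedSectionVars false

namespace Cfsg.Agent.H938.F43

open CoxeterSystem Cfsg.Agent.ChevalleyStructure.CoxeterGeom Cfsg.Agent.Tits.Roots Cfsg.Agent.Tits.Core
  Cfsg.Agent.Tits.Exchange Cfsg.Agent.Nodes.Reps Cfsg.Agent.Nodes.BNOf Cfsg.Agent.Nodes.StabComb
  Cfsg.Agent.Nodes.Bruhat Cfsg.Agent.Nodes.OppDec Cfsg.Agent.Nodes.LeviDec
  Cfsg.Agent.Nodes.RGDChev Cfsg.Agent.KFacts.RgdFilt Cfsg.Agent.KFacts.RgdBorelTits Cfsg.Agent.KFacts.RgdChevCoord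
  Cfsg.Agent.H700.F43
open Cfsg.Lie Cfsg.Agent.ChevalleyStructure Cfsg.Agent.ChevalleyStructure.Elts
  Cfsg.Agent.ChevalleyStructure.RootVec Cfsg.Agent.ChevalleyStructure.NPerm
  Cfsg.Agent.ChevalleyStructure.CoxeterGeomTypes
open Cfsg.Agent.H701.F43.Cent (cF nroots finW)

open scoped commutatorElement

abbrev F3 := ZMod 3

instance : Fact (Nat.Prime 3) := ⟨Nat.prime_three⟩

/-- the root groups -/
abbrev X3 : (Fin 4 → ℤ) → Subgroup Gm := XX chevF4 4 F3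

/-- the level -/
def dot (f x : Fin 4 → ℤ) : ℤ := f 0 * x 0 + f 1 * x 1 + f 2 * x 2 + f 3 * x 3

theorem dot_add (f x y : Fin 4 → ℤ) : dot f (x + y) = dot f x + dot f y := by
  simp only [dot, Pi.add_apply]; ring

theorem dot_smul (f x : Fin 4 → ℤ) (i : ℤ) : dot f (i • x) = i * dot f x := by
  simp only [dot, Pi.smul_apply, smul_eq_mul]; ring

theorem dot_neg (f x : Fin 4 → ℤ) : dot f (-x) = -dot f x := by
  simp only [dot, Pi.neg_apply]; ring

/-- the roots of level `≥ k` -/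
def Lk (f : Fin 4 → ℤ) (k : ℤ) : Set (Fin 4 → ℤ) := {x | IsRoot cF hF.isCartan x ∧ k ≤ dot f x}

/-- the group of level `≥ k` -/
def Vk (f : Fin 4 → ℤ) (k : ℤ) : Subgroup Gm := RGD.Sup X3 (Lk f k)

theorem rgd3 : RGD cF hF.isCartan 3 (TT chevF4 F3) (nc hF F3) X3 := rgd (K := F3) hF cF 3

theorem intComm3 : IntComm cF hF.isCartan X3 := by
  have h0 := Cfsg.Agent.KFacts.RgdFiltChev.intComm_GL (K := F3) hF cF
  intro x y hx hy hxy hxy' a ha b hb
  have h2 := h0 x y hx hy hxy hxy' a ha b hb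
  have h3 : FS X3 {z | IB cF hF.isCartan x y z} =
      (FS (XV chevF4 4 F3) {z | IB cF hF.isCartan x y z}).subgroupOf (chevF4.group F3) := by
    unfold FS
    rw [Nodes.RGDLib.iSup_subgroupOf]
    rintro ⟨z, hz⟩
    exact XV_le_group hF z
  rw [h3, Subgroup.mem_subgroupOf]
  exact h2

theorem coord3 {x : Fin 4 → ℤ} (hx : IsRoot cF hF.isCartan x) :
    Cfsg.Agent.KFacts.RgdField.Coord (TT chevF4 F3) (X3 x) (xc hF x) (ch hF x) :=
  (coords (K := F3) hF cF 3).coord _ hx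

theorem isRoot_lt {r : ℕ} (hr : r < 48) : IsRoot cF hF.isCartan (Cfsg.Agent.Nodes.RGDChev.vec chevF4 4 r) :=
  (isRoot_iff hF cF _).2 ⟨r, by rwa [nroots], rfl⟩

theorem conj_sup {Y : Type*} [Group Y] {S : Set (Fin 4 → ℤ)} (X : (Fin 4 → ℤ) → Subgroup Y) (H : Subgroup Y) (a : Y)
    (h : ∀ x ∈ S, ∀ v ∈ X x, a * v * a⁻¹ ∈ H) {v : Y} (hv : v ∈ RGD.Sup X S) : a * v * a⁻¹ ∈ H := by
  have h1 : RGD.Sup X S ≤ H.comap (MulAut.conj a).toMonoidHom := RGD.Sup_le fun y hy v hv => h y hy v hv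
  exact h1 hv

theorem le_normalizer_of (f : Fin 4 → ℤ) {x : Fin 4 → ℤ} (hx : IsRoot cF hF.isCartan x) (h0 : 0 ≤ dot f x) {k : ℤ}
    (hk : 1 ≤ k) {a v : Gm} (ha : a ∈ X3 x) (hv : v ∈ Vk f k) : a * v * a⁻¹ ∈ Vk f k := by
  refine conj_sup X3 _ a (fun y hy v hv => ?_) hv
  by_cases hxy : x = y
  · subst hxy
    exact RGD.le_Sup hy (mul_mem (mul_mem ha hv) (inv_mem ha))
  · have h2 : x ≠ -y := by
      intro h2
      rw [h2, dot_neg] at h0
      have := hy.2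
      linarith
    have h4 := intComm3 x y hx hy.1 hxy h2 a ha v hv
    have h5 : FS X3 {z | IB cF hF.isCartan x y z} ≤ Vk f k := FS_le fun z hz => RGD.le_Sup (by
      obtain ⟨hz1, i, j, hi, hj, rfl⟩ := hz
      refine ⟨hz1, ?_⟩
      rw [dot_add, dot_smul, dot_smul]
      have := hy.2
      nlinarith)
    have e : a * v * a⁻¹ = ⁅a, v⁆ * v := by
      rw [commutatorElement_def]
      group
    rw [e]
    exact mul_mem (h5 h4) (RGD.le_Sup hy hv)

theorem Vk_mono (f : Fin 4 → ℤ) {k l : ℤ} (h : k ≤ l) : Vk f l ≤ Vk f k :=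
  RGD.Sup_mono fun _ hx => ⟨hx.1, le_trans h hx.2⟩

theorem Vk_conj (f : Fin 4 → ℤ) {k l : ℤ} (hk : 0 ≤ k) (hl : 1 ≤ l) {a v : Gm} (ha : a ∈ Vk f k) (hv : v ∈ Vk f l) :
    a * v * a⁻¹ ∈ Vk f l := by
  have h : Vk f k ≤ Subgroup.normalizer (Vk f l : Set Gm) := by
    refine RGD.Sup_le fun x hx a ha => ?_
    rw [Subgroup.mem_normalizer_iff]
    intro w
    refine ⟨fun hw => le_normalizer_of f hx.1 (le_trans hk hx.2) hl ha hw, fun hw => ?_⟩
    have := le_normalizer_of f hx.1 (le_trans hk hx.2) hl (inv_mem ha) hw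
    have e : a⁻¹ * (a * w * a⁻¹) * a⁻¹⁻¹ = w := by group
    rwa [e] at this
  exact (Subgroup.mem_normalizer_iff.1 (h ha) v).1 hv

theorem gen_comm (f : Fin 4 → ℤ) {k : ℤ} (hk : 1 ≤ k) {x y : Fin 4 → ℤ} (hx : x ∈ Lk f k) (hy : y ∈ Lk f k) {a b : Gm}
    (ha : a ∈ X3 x) (hb : b ∈ X3 y) : ⁅a, b⁆ ∈ Vk f (k + 1) := by
  by_cases hxy : x = y
  · subst hxy
    obtain ⟨s, rfl⟩ := ((coord3 hx.1).mem a).1 ha
    obtain ⟨t, rfl⟩ := ((coord3 hx.1).mem b).1 hb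
    have : ⁅xc hF x s, xc hF x t⁆ = (1 : Gm) := by
      rw [commutatorElement_eq_one_iff_mul_comm, ← (coord3 hx.1).add, ← (coord3 hx.1).add, add_comm]
    rw [this]
    exact one_mem _
  · have h2 : x ≠ -y := by
      intro h2
      have h1 := hx.2
      rw [h2, dot_neg] at h1
      have := hy.2
      linarith
    have h4 := intComm3 x y hx.1 hy.1 hxy h2 a ha b hb
    have h5 : FS X3 {z | IB cF hF.isCartan x y z} ≤ Vk f (k + 1) := FS_le fun z hz => RGD.le_Sup (by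
      obtain ⟨hz1, i, j, hi, hj, rfl⟩ := hz
      refine ⟨hz1, ?_⟩
      rw [dot_add, dot_smul, dot_smul]
      have h6 := hx.2
      have h7 := hy.2
      nlinarith)
    exact h5 h4

theorem comm_half (f : Fin 4 → ℤ) {k : ℤ} (hk : 1 ≤ k) {b : Gm} (hb : ∀ x ∈ Lk f k, ∀ a ∈ X3 x, ⁅a, b⁆ ∈ Vk f (k + 1))
    {a : Gm} (ha : a ∈ Vk f k) : ⁅a, b⁆ ∈ Vk f (k + 1) := by
  have h1 : Vk f k ≤ Vk f k ⊓ Vk f k := le_inf le_rfl le_rfl
  have key : a ∈ Vk f k ∧ ⁅a, b⁆ ∈ Vk f (k + 1) := by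
    refine Subgroup.iSup_induction (fun z : Lk f k => X3 z.1) (C := fun a => a ∈ Vk f k ∧ ⁅a, b⁆ ∈ Vk f (k + 1))
      ha ?_ ?_ ?_
    · rintro ⟨x, hx⟩ a ha
      exact ⟨RGD.le_Sup hx ha, hb x hx a ha⟩
    · refine ⟨one_mem _, ?_⟩
      rw [commutatorElement_one_left]
      exact one_mem _
    · rintro a c ⟨ha, ha'⟩ ⟨hc, hc'⟩
      refine ⟨mul_mem ha hc, ?_⟩
      have e : ⁅a * c, b⁆ = a * ⁅c, b⁆ * a⁻¹ * ⁅a, b⁆ := by
        rw [commutatorElement_def, commutatorElement_def, commutatorElement_def]; group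
      rw [e]
      exact mul_mem (Vk_conj f (by omega) (by omega) ha hc') ha'
  exact key.2

theorem comm_Vk (f : Fin 4 → ℤ) {k : ℤ} (hk : 1 ≤ k) {a b : Gm} (ha : a ∈ Vk f k) (hb : b ∈ Vk f k) :
    a * b * a⁻¹ * b⁻¹ ∈ Vk f (k + 1) := by
  rw [← commutatorElement_def]
  refine comm_half f hk (fun x hx a ha => ?_) ha
  have e : ⁅a, b⁆ = ⁅b, a⁆⁻¹ := by rw [commutatorElement_inv]
  rw [e]
  exact inv_mem (comm_half f hk (fun y hy c hc => gen_comm f hk hy hx hc ha) hb)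

/-! ### words -/

/-- the inverse word -/
def invw (w : List (ℕ × Bool)) : List (ℕ × Bool) := (w.map fun p => (p.1, !p.2)).reverse

theorem xr_inv {p : ℕ × Bool} (hp : p.1 < 48) : (xr p)⁻¹ = xr (p.1, !p.2) := by
  have C := coord3 (isRoot_lt hp)
  rw [inv_eq_iff_mul_eq_one]
  show xc hF _ (sgb p.2) * xc hF _ (sgb (!p.2)) = 1
  rw [← C.add]
  have : sgb p.2 + sgb (!p.2) = 0 := by cases p.2 <;> decide
  rw [this]
  exact C.zero

theorem wd_inv {w : List (ℕ × Bool)} (hw : okF w = true) : (wd w)⁻¹ = wd (invw w) := by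
  induction w with
  | nil => rw [wd_nil, inv_one]; rfl
  | cons p w ih =>
    rw [okF, List.all_cons, Bool.and_eq_true, decide_eq_true_eq] at hw
    have e : invw (p :: w) = invw w ++ [(p.1, !p.2)] := by
      rw [invw, List.map_cons, List.reverse_cons]
      rfl
    rw [wd_cons, mul_inv_rev, ih hw.2, xr_inv hw.1, e, wd_append, wd_single]

theorem xr_mem {p : ℕ × Bool} (hp : p.1 < 48) : xr p ∈ X3 (Cfsg.Agent.Nodes.RGDChev.vec chevF4 4 p.1) :=
  ((coord3 (isRoot_lt hp)).mem _).2 ⟨_, rfl⟩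

/-- the level of a root -/
def lvl (f : Fin 4 → ℤ) (r : ℕ) : ℤ := dot f (Cfsg.Agent.Nodes.RGDChev.vec chevF4 4 r)

theorem xr_mem_Vk {f : Fin 4 → ℤ} {k : ℤ} {p : ℕ × Bool} (hp : p.1 < 48) (h : k ≤ lvl f p.1) : xr p ∈ Vk f k :=
  RGD.le_Sup (show _ ∈ Lk f k from ⟨isRoot_lt hp, h⟩) (xr_mem hp)

theorem wd_mem_Vk {f : Fin 4 → ℤ} {k : ℤ} {w : List (ℕ × Bool)} (h : ∀ p ∈ w, p.1 < 48 ∧ k ≤ lvl f p.1) :
    wd w ∈ Vk f k := by
  induction w with
  | nil => rw [wd_nil]; exact one_mem _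
  | cons p w ih =>
    rw [wd_cons]
    exact mul_mem (xr_mem_Vk (h p (List.mem_cons_self)).1 (h p (List.mem_cons_self)).2)
      (ih fun q hq => h q (List.mem_cons_of_mem _ hq))

theorem xc_cases {r : ℕ} (hr : r < 48) {a : Gm} (ha : a ∈ X3 (Cfsg.Agent.Nodes.RGDChev.vec chevF4 4 r))
    {H : Subgroup Gm} (hH : xr (r, true) ∈ H) : a ∈ H := by
  have C := coord3 (isRoot_lt hr)
  obtain ⟨t, rfl⟩ := (C.mem a).1 ha
  have ht : ∀ t : F3, t = 0 ∨ t = sgb true ∨ t = sgb true + sgb true := by decide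
  have ht := ht t
  rcases ht with rfl | rfl | rfl
  · rw [C.zero]; exact one_mem _
  · exact hH
  · rw [C.add]; exact mul_mem hH hH

theorem xr_pow {p : ℕ × Bool} (hp : p.1 < 48) : xr p ^ 3 = 1 := by
  have C := coord3 (isRoot_lt hp)
  show xc hF _ (sgb p.2) ^ 3 = 1
  rw [pow_succ, pow_two, ← C.add, ← C.add]
  have : sgb p.2 + sgb p.2 + sgb p.2 = 0 := by cases p.2 <;> decide
  rw [this]
  exact C.zero

/-- a row: root, `v`, word in `S`, correction -/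
abbrev Row := ℕ × List (ℕ × Bool) × List (ℕ × Bool) × List (ℕ × Bool)

/-- the combinatorial conditions of a row -/
def rowC (f : Fin 4 → ℤ) (k : ℤ) (S : List ℕ) (q : Row) : Prop :=
  (∀ p ∈ q.2.1, p.1 < 48 ∧ k ≤ lvl f p.1) ∧ (∀ p ∈ q.2.2.1, p.1 ∈ S) ∧
    ∀ p ∈ q.2.2.2, p.1 < 48 ∧ k + 1 ≤ lvl f p.1

instance (f : Fin 4 → ℤ) (k : ℤ) (S : List ℕ) (q : Row) : Decidable (rowC f k S q) := by
  unfold rowC; infer_instance

/-- the word of a row -/
def rowW (y : List (ℕ × Bool)) (q : Row) : List (ℕ × Bool) :=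
  q.2.1 ++ (y ++ (invw q.2.1 ++ (invw y ++ (q.2.2.1 ++ q.2.2.2))))

/-- **the certificate for one level** -/
theorem fix_step {f : Fin 4 → ℤ} {k : ℤ} (hk : 1 ≤ k) {y : List (ℕ × Bool)} (hy : ∀ p ∈ y, p.1 < 48 ∧ 0 ≤ lvl f p.1)
    {S : List ℕ} (hS : ∀ s ∈ S, s < 48 ∧ k ≤ lvl f s) {rows : List Row} (h1 : ∀ q ∈ rows, rowC f k S q)
    (h2 : ∀ q ∈ rows, chkE [(q.1, true)] (rowW y q) = true)
    (h3 : ∀ r < 48, k ≤ lvl f r → k + 1 ≤ lvl f r ∨ r ∈ S ∨ r ∈ rows.map (·.1)) :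
    Nat.card ↥(Vk f k ⊓ Subgroup.centralizer {wd y}) ≤
      3 ^ S.length * Nat.card ↥(Vk f (k + 1) ⊓ Subgroup.centralizer {wd y}) := by
  have hy0 : wd y ∈ Vk f 0 := wd_mem_Vk hy
  have hyok : okF y = true := by
    rw [okF, List.all_eq_true]
    intro e he
    exact decide_eq_true (hy e he).1
  have h := Abs.step (V := Vk f k) (N := Vk f (k + 1)) (Vk_mono f (by omega)) (wd y)
    (fun a ha b hb => comm_Vk f hk ha hb) (fun v hv => Vk_conj f le_rfl hk hy0 hv)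
    (fun v hv => Vk_conj f le_rfl (by omega) hy0 hv) (S.map fun s => xr (s, true)) ?_ ?_ ?_
  · rwa [List.length_map] at h
  · intro s hs
    obtain ⟨r, hr, rfl⟩ := List.mem_map.1 hs
    exact xr_mem_Vk (p := (r, true)) (hS r hr).1 (hS r hr).2
  · intro s hs
    obtain ⟨r, hr, rfl⟩ := List.mem_map.1 hs
    exact xr_pow (p := (r, true)) (hS r hr).1
  · refine RGD.Sup_le fun x hx => ?_
    obtain ⟨r, hr, rfl⟩ := (isRoot_iff hF cF x).1 hx.1
    rw [nroots] at hr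
    intro a ha
    refine xc_cases hr ha ?_
    set H := Subgroup.closure (({x | ∃ v ∈ Vk f k, x = v * wd y * v⁻¹ * (wd y)⁻¹} ∪ (Vk f (k + 1) : Set Gm)) ∪
      {s | s ∈ S.map fun s => xr (s, true)}) with hH
    have hN : ∀ v ∈ Vk f (k + 1), v ∈ H := fun v hv => Subgroup.subset_closure (Or.inl (Or.inr hv))
    have hSS : ∀ r ∈ S, xr (r, true) ∈ H := fun r hr =>
      Subgroup.subset_closure (Or.inr (List.mem_map.2 ⟨r, hr, rfl⟩))
    have hSS' : ∀ p : ℕ × Bool, p.1 ∈ S → xr p ∈ H := by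
      rintro ⟨r, b⟩ hr
      cases b
      · have := inv_mem (hSS r hr)
        rwa [xr_inv (p := (r, true)) (hS r hr).1] at this
      · exact hSS r hr
    rcases h3 r hr hx.2 with h4 | h4 | h4
    · exact hN _ (xr_mem_Vk (p := (r, true)) hr h4)
    · exact hSS r h4
    · obtain ⟨q, hq, rfl⟩ := List.mem_map.1 h4
      have h5 := word_eq (h2 q hq)
      obtain ⟨h6, h7, h8⟩ := h1 q hq
      have hvok : okF q.2.1 = true := by
        rw [okF, List.all_eq_true]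
        intro e he
        exact decide_eq_true (h6 e he).1
      rw [wd_single] at h5
      rw [h5, rowW, wd_append, wd_append, wd_append, wd_append, wd_append, ← wd_inv hvok, ← wd_inv hyok]
      have e : wd q.2.1 * (wd y * ((wd q.2.1)⁻¹ * ((wd y)⁻¹ * (wd q.2.2.1 * wd q.2.2.2)))) =
          (wd q.2.1 * wd y * (wd q.2.1)⁻¹ * (wd y)⁻¹) * (wd q.2.2.1 * wd q.2.2.2) := by group
      rw [e]
      refine mul_mem (Subgroup.subset_closure (Or.inl (Or.inl ⟨_, wd_mem_Vk h6, rfl⟩))) (mul_mem ?_ (hN _ (wd_mem_Vk h8)))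
      clear e h5 h6 h8 hvok
      generalize q.2.2.1 = w at h7
      induction w with
      | nil => rw [wd_nil]; exact one_mem _
      | cons p w ih =>
        rw [wd_cons]
        exact mul_mem (hSS' p (h7 p (List.mem_cons_self))) (ih fun q hq => h7 q (List.mem_cons_of_mem _ hq))

/-- the last level -/
theorem Vk_bot {f : Fin 4 → ℤ} {k : ℤ} (h : ∀ r < 48, lvl f r < k) : Vk f k = ⊥ := by
  rw [eq_bot_iff]
  refine RGD.Sup_le fun x hx => ?_
  obtain ⟨r, hr, rfl⟩ := (isRoot_iff hF cF x).1 hx.1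
  rw [nroots] at hr
  have h1 := h r hr
  have h2 : k ≤ lvl f r := hx.2
  omega

end Cfsg.Agent.H938.F43
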